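import Cfsg.Agent.Chev54.G2Deg.Rels
import Cfsg.Agent.ChevGroup.Mat.SimpleG2
import Cfsg.Agent.CrossChar56.Common

/-!
Consequences of the relations on multiplicities: splitting inside the unipotent radical, translations,
swaps and faithfulness.
-/

set_option autoImplicit false

noncomputable section

namespace Cfsg.Agent.G2Deg54

open Cfsg.Lie Cfsg.Agent.ChevGroup Cfsg.Agent.ChevCore Cfsg.Agent.G2Orders80

universe u

namespace Ctx

variable {F : Type u} [Field F] [Fintype F] {k : ℕ} (C : Ctx F k)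

theorem act_smul {g h : Grp F} {x : Fin k → ℂ} {z : ℂ} (h1 : C.ρ h x = z • x) :
    C.ρ (g * h) x = z • C.ρ g x := by
  rw [C.apply_mul, h1, map_smul]

theorem act_of_mem {L : List (Rt × F)} {x : Fin k → ℂ} (hx : x ∈ C.es L) {s : Rt} {a : F}
    (hs : (s, a) ∈ L) (u : F) : C.ρ (X s u) x = C.ψ (a * u) • x :=
  C.mem_es.mp hx (s, a) hs u

theorem act_of_zero {L : List (Rt × F)} {x : Fin k → ℂ} (hx : x ∈ C.es L) {s : Rt}
    (hs : (s, (0 : F)) ∈ L) (u : F) : C.ρ (X s u) x = x := by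
  rw [C.act_of_mem hx hs, zero_mul, AddChar.map_zero_eq_one, one_smul]

/-- root pairs whose commutator is trivial, as a boolean -/
def commB (r s : Rt) : Bool :=
  decide (r = s) || (decide (s.val ≠ chevG2.neg r.val) && decide (chevG2.commTerms r.val s.val = []))

theorem conj_comm {r s : Rt} (h : commB r s = true) (t u : F) :
    (X r t : Grp F)⁻¹ * X s u * X r t = X s u := by
  refine conj_trivial r s ?_ t u
  simpa [commB] using h

/-- splitting along a root group commuting with the given ones -/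
theorem md_split_comm (W : Submodule ℂ (Fin k → ℂ)) (r : Rt) (L : List (Rt × F))
    (hW : ∀ u, ∀ x ∈ W, C.ρ (X r u) x ∈ W) (hc : ∀ p ∈ L, commB r p.1 = true) :
    C.md W L = ∑ a : F, C.md W ((r, a) :: L) :=
  C.md_split W r L hW fun u x _ hx => C.es_invariant hx fun p hp v => by rw [conj_comm (hc p hp)]

theorem m_split_comm (r : Rt) (L : List (Rt × F)) (hc : ∀ p ∈ L, commB r p.1 = true) :
    C.m L = ∑ a : F, C.m ((r, a) :: L) :=
  C.md_split_comm ⊤ r L (fun _ _ _ => trivial) hc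

/-- the roots of the unipotent radical -/
def QR : List Rt := [6, 8, 9, 10, 11]

theorem qr_cert : ∀ r ∈ QR, ∀ s ∈ QR, commB r s = true ∨ (r, s) = ((6 : Rt), (10 : Rt)) ∨
    (r, s) = ((10 : Rt), (6 : Rt)) ∨ (r, s) = ((8 : Rt), (9 : Rt)) ∨ (r, s) = ((9 : Rt), (8 : Rt)) := by
  decide +kernel

/-- splitting inside the unipotent radical modulo its centre -/
theorem md_splitQ (W : Submodule ℂ (Fin k → ℂ)) (r : Rt) (L : List (Rt × F))
    (hW : ∀ u, ∀ x ∈ W, C.ρ (X r u) x ∈ W) (hr : r ∈ QR) (hL : ∀ p ∈ L, p.1 ∈ QR)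
    (h0 : ((11 : Rt), (0 : F)) ∈ L) :
    C.md W L = ∑ a : F, C.md W ((r, a) :: L) := by
  refine C.md_split W r L hW fun u x _ hx => C.es_invariant hx fun p hp v => ?_
  rcases qr_cert r hr p.1 (hL p hp) with h | h | h | h | h
  · rw [conj_comm h]
  all_goals
    simp only [Prod.mk.injEq] at h
    obtain ⟨h1, h2⟩ := h
    subst h1
    rw [h2]
  · rw [conj_6_10, C.apply_mul, C.act_of_zero hx h0]
  · rw [conj_10_6, C.apply_mul, C.act_of_zero hx h0]
  · rw [conj_8_9, C.apply_mul, C.act_of_zero hx h0]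
  · rw [conj_9_8, C.apply_mul, C.act_of_zero hx h0]

theorem m_splitQ (r : Rt) (L : List (Rt × F)) (hr : r ∈ QR) (hL : ∀ p ∈ L, p.1 ∈ QR)
    (h0 : ((11 : Rt), (0 : F)) ∈ L) :
    C.m L = ∑ a : F, C.m ((r, a) :: L) :=
  C.md_splitQ ⊤ r L (fun _ _ _ => trivial) hr hL h0

/-- multiplicity of a character of the unipotent radical trivial on the centre -/
def D (a b c d : F) : ℕ := C.m [(10, d), (9, c), (8, b), (6, a), (11, 0)]

/-- equality of multiplicities from a map and its inverse -/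
theorem md_eq_of_pair {W : Submodule ℂ (Fin k → ℂ)} {L L' : List (Rt × F)} (g g' : Grp F)
    (hg : ∀ x ∈ W, C.ρ g x ∈ W) (hg' : ∀ x ∈ W, C.ρ g' x ∈ W)
    (h : ∀ x, x ∈ C.es L → C.ρ g x ∈ C.es L') (h' : ∀ x, x ∈ C.es L' → C.ρ g' x ∈ C.es L) :
    C.md W L = C.md W L' :=
  le_antisymm (C.md_le_of_map g hg fun x _ hx => h x hx) (C.md_le_of_map g' hg' fun x _ hx => h' x hx)

theorem m_eq_of_pair {L L' : List (Rt × F)} (g g' : Grp F)
    (h : ∀ x, x ∈ C.es L → C.ρ g x ∈ C.es L') (h' : ∀ x, x ∈ C.es L' → C.ρ g' x ∈ C.es L) :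
    C.m L = C.m L' :=
  C.md_eq_of_pair g g' (fun _ _ => trivial) (fun _ _ => trivial) h h'

theorem D_trans_map (t a b c d : F) (x : Fin k → ℂ)
    (hx : x ∈ C.es [(10, d), (9, c), (8, b), (6, a), (11, 0)]) :
    C.ρ (X 7 t) x ∈ C.es [(10, d), (9, c - 3 * t * d), (8, b + 2 * t * c - 3 * t ^ 2 * d),
      (6, a + t * b + t ^ 2 * c - t ^ 3 * d), (11, 0)] := by
  have h10 := C.act_of_mem hx (s := (10 : Rt)) (a := d) (by simp)
  have h9 := C.act_of_mem hx (s := (9 : Rt)) (a := c) (by simp)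
  have h8 := C.act_of_mem hx (s := (8 : Rt)) (a := b) (by simp)
  have h6 := C.act_of_mem hx (s := (6 : Rt)) (a := a) (by simp)
  have h11 := C.act_of_zero hx (s := (11 : Rt)) (by simp)
  refine C.map_mem_es fun p hp u => ?_
  simp only [List.mem_cons, List.not_mem_nil, or_false] at hp
  rcases hp with rfl | rfl | rfl | rfl | rfl
  · rw [conj_comm (show commB (7 : Rt) (10 : Rt) = true by decide +kernel), h10]
  · simp only [conj_7_9, C.apply_mul, h10, map_smul, h9, smul_smul, ← AddChar.map_add_eq_mul]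
    congr 2; ring
  · simp only [conj_7_8, C.apply_mul, h11, h10, map_smul, h9, h8, smul_smul, ← AddChar.map_add_eq_mul]
    congr 2; ring
  · simp only [conj_7_6, C.apply_mul, h11, h10, map_smul, h9, h8, h6, smul_smul,
      ← AddChar.map_add_eq_mul]
    congr 2; ring
  · rw [conj_comm (show commB (7 : Rt) (11 : Rt) = true by decide +kernel), h11, zero_mul, AddChar.map_zero_eq_one, one_smul]

/-- translation by the short simple root -/
theorem D_trans (t a b c d : F) :
    C.D (a + t * b + t ^ 2 * c - t ^ 3 * d) (b + 2 * t * c - 3 * t ^ 2 * d) (c - 3 * t * d) d =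
      C.D a b c d := by
  refine (C.m_eq_of_pair (X 7 t) (X 7 (-t)) (C.D_trans_map t a b c d) fun x hx => ?_).symm
  have h := C.D_trans_map (-t) _ _ _ _ x hx
  convert h using 9 <;> ring

/-- the swap by the short simple reflection -/
theorem D_swap : ∃ e₁ e₂ e₃ e₄ : F, e₁ ≠ 0 ∧ e₂ ≠ 0 ∧ e₃ ≠ 0 ∧ e₄ ≠ 0 ∧
    ∀ a b c d : F, C.D a b c d = C.D (e₁ * d) (e₂ * c) (e₃ * b) (e₄ * a) := by
  obtain ⟨e, he, h⟩ := C.md_nw ⊤ [0] (fun _ _ => trivial) (fun _ _ => trivial)
  have hne : ∀ s, e s ≠ 0 := fun s h0 => by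
    have := he s
    rw [h0, mul_zero] at this
    exact zero_ne_one this
  refine ⟨e 10, e 9, e 8, e 6, hne _, hne _, hne _, hne _, fun a b c d => ?_⟩
  refine (h _).trans (C.md_eq_of_mem_iff fun p => ?_)
  have e10 : wact [0] (10 : Rt) = 6 := by decide +kernel
  have e9 : wact [0] (9 : Rt) = 8 := by decide +kernel
  have e8 : wact [0] (8 : Rt) = 9 := by decide +kernel
  have e6 : wact [0] (6 : Rt) = 10 := by decide +kernel
  have e11 : wact [0] (11 : Rt) = 11 := by decide +kernel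
  simp only [List.map_cons, List.map_nil, e10, e9, e8, e6, e11, mul_zero, List.mem_cons,
    List.not_mem_nil, or_false]
  tauto

theorem ev_six (u w : Fˣ) : ev2 u w (cfv 6) = w := by
  rw [show cfv 6 = ((0 : ℤ), (1 : ℤ)) by decide]; simp [ev2]

theorem ev_seven (u w : Fˣ) : ev2 u w (cfv 7) = u := by
  rw [show cfv 7 = ((1 : ℤ), (0 : ℤ)) by decide]; simp [ev2]

theorem ev_eight (u w : Fˣ) : ev2 u w (cfv 8) = u * w := by
  rw [show cfv 8 = ((1 : ℤ), (1 : ℤ)) by decide]; simp [ev2]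

theorem ev_nine (u w : Fˣ) : ev2 u w (cfv 9) = u ^ 2 * w := by
  rw [show cfv 9 = ((2 : ℤ), (1 : ℤ)) by decide]; simp [ev2]

theorem ev_ten (u w : Fˣ) : ev2 u w (cfv 10) = u ^ 3 * w := by
  rw [show cfv 10 = ((3 : ℤ), (1 : ℤ)) by decide]; simp [ev2]

theorem ev_eleven (u w : Fˣ) : ev2 u w (cfv 11) = u ^ 3 * w ^ 2 := by
  rw [show cfv 11 = ((3 : ℤ), (2 : ℤ)) by decide]; simp [ev2]

/-- torus scaling of `D` -/
theorem D_tor (u w : Fˣ) (a b c d : F) :
    C.D (a * w) (b * (u * w : Fˣ)) (c * (u ^ 2 * w : Fˣ)) (d * (u ^ 3 * w : Fˣ)) = C.D a b c d := by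
  have h := C.m_tor u w [(10, d), (9, c), (8, b), (6, a), (11, 0)]
  simp only [List.map_cons, List.map_nil, ev_six, ev_eight, ev_nine, ev_ten, ev_eleven, zero_mul] at h
  exact h

theorem m_eleven_zero_eq : C.m [(11, 0)] = ∑ a : F, ∑ b : F, ∑ c : F, ∑ d : F, C.D a b c d := by
  rw [C.m_splitQ 6 [(11, 0)] (by decide) (by simp [QR]) (by simp)]
  refine Finset.sum_congr rfl fun a _ => ?_
  rw [C.m_splitQ 8 _ (by decide) (by simp [QR]) (by simp)]
  refine Finset.sum_congr rfl fun b _ => ?_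
  rw [C.m_splitQ 9 _ (by decide) (by simp [QR]) (by simp)]
  refine Finset.sum_congr rfl fun c _ => ?_
  exact C.m_splitQ 10 _ (by decide) (by simp [QR]) (by simp)

theorem m_six_eleven_zero_eq (a : F) :
    C.m [(6, a), (11, 0)] = ∑ b : F, ∑ c : F, ∑ d : F, C.D a b c d := by
  rw [C.m_splitQ 8 _ (by decide) (by simp [QR]) (by simp)]
  refine Finset.sum_congr rfl fun b _ => ?_
  rw [C.m_splitQ 9 _ (by decide) (by simp [QR]) (by simp)]
  refine Finset.sum_congr rfl fun c _ => ?_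
  exact C.m_splitQ 10 _ (by decide) (by simp [QR]) (by simp)

theorem k_eq_sum (r : Rt) : k = ∑ a : F, C.m [(r, a)] := by
  conv_lhs => rw [← C.m_nil]
  exact C.m_split_comm r [] (fun p hp => absurd hp (List.not_mem_nil))

/-- no root group acts trivially -/
theorem exists_root_char (hρ : C.ρ.IsIrreducible) (hk : 2 ≤ k) (hq : 2 < Fintype.card F) (r : Rt) :
    ∃ a : F, a ≠ 0 ∧ 0 < C.m [(r, a)] := by
  classical
  by_contra hcon
  push Not at hcon
  have hk0 : k = C.m [(r, 0)] := by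
    conv_lhs => rw [C.k_eq_sum r]
    exact Finset.sum_eq_single 0 (fun a _ ha => Nat.le_zero.mp (hcon a ha)) (by simp)
  have htop : C.es [(r, 0)] = ⊤ := by
    have h1 : Module.finrank ℂ ↥((⊤ : Submodule ℂ (Fin k → ℂ)) ⊓ C.es [(r, 0)]) = k := hk0.symm
    rw [top_inf_eq] at h1
    exact Submodule.eq_top_of_finrank_eq (by rw [h1, Module.finrank_fin_fun])
  obtain ⟨g, hg⟩ := CrossChar56.exists_ne_one_of_irreducible C.ρ hρ hk
  haveI : IsSimpleGroup (Grp F) := by
    refine (TypeG2.isSimple F ?_).1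
    by_contra h
    push Not at h
    have : (Finset.univ : Finset F) ⊆ {0, 1} := fun a _ => by
      rcases eq_or_ne a 0 with rfl | ha
      · simp
      · simp [h a ha]
    have := Finset.card_le_card this
    rw [Finset.card_univ] at this
    have h2 : ({0, 1} : Finset F).card ≤ 2 := Finset.card_le_two
    omega
  have hker : (MonoidHom.ker C.ρ) = ⊤ := by
    refine ((MonoidHom.normal_ker C.ρ).eq_bot_or_eq_top).resolve_left fun h => ?_
    have hmem : (X r 1 : Grp F) ∈ MonoidHom.ker C.ρ := by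
      rw [MonoidHom.mem_ker]
      refine LinearMap.ext fun x => ?_
      exact C.act_of_zero (L := [(r, 0)]) (htop ▸ Submodule.mem_top) (by simp) 1
    rw [h, Subgroup.mem_bot] at hmem
    exact one_ne_zero (X_inj r (hmem.trans (X_zero r).symm))
  exact hg (MonoidHom.mem_ker.mp (hker ▸ Subgroup.mem_top g))

end Ctx

end Cfsg.Agent.G2Deg54
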