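import Cfsg.Agent.Chev54.G2Deg.NotThree
import Cfsg.Agent.G2Orders80.Rank1

/-!
For `q ≡ 1 (mod 3)` a representation of degree `q³ - 1` cannot exist: an element of order three centralising
the long root groups would have an eigenspace that is too large.
-/

set_option autoImplicit false

noncomputable section

namespace Cfsg.Agent.G2Deg54

open Cfsg.Lie Cfsg.Agent.ChevGroup Cfsg.Agent.ChevCore Cfsg.Agent.G2Orders80

universe u

variable {F : Type u} [Field F]

theorem cert_1_5 : chevG2.commTerms 1 5 = [(0, 1, 1, 1)] := by decide +kernel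

theorem cert_1_11 : chevG2.commTerms 1 11 = [(6, -1, 1, 1)] := by decide +kernel

theorem conj_1_5 (t u : F) : (X 1 t : Grp F)⁻¹ * X 5 u * X 1 t = X 5 u * X 0 (-(t * u)) := by
  rw [conj_word 1 5 [(0, 1, 1, 1)] (by decide) (by decide +kernel) cert_1_5]
  simp only [List.map_cons, List.map_nil, List.prod_cons, List.prod_nil, mul_one]
  push_cast; ring_nf

theorem conj_1_11 (t u : F) : (X 1 t : Grp F)⁻¹ * X 11 u * X 1 t = X 11 u * X 6 (t * u) := by
  rw [conj_word 1 11 [(6, -1, 1, 1)] (by decide) (by decide +kernel) cert_1_11]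
  simp only [List.map_cons, List.map_nil, List.prod_cons, List.prod_nil, mul_one]
  push_cast; ring_nf

namespace Ctx

variable [Fintype F] {k : ℕ} (C : Ctx F k)

theorem eigen_unique {r : Rt} {a b : F} {x : Fin k → ℂ} (hx : x ≠ 0)
    (ha : ∀ u, C.ρ (X r u) x = C.ψ (a * u) • x) (hb : ∀ u, C.ρ (X r u) x = C.ψ (b * u) • x) : a = b := by
  by_contra hne
  refine C.hψ (sub_ne_zero.mpr hne) ?_
  ext u
  have e : C.ψ (a * u) = C.ψ (b * u) := smul_left_injective ℂ hx ((ha u).symm.trans (hb u))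
  rw [AddChar.mulShift_apply, AddChar.one_apply, sub_mul, sub_eq_add_neg, AddChar.map_add_eq_mul, e,
    ← AddChar.map_add_eq_mul, add_neg_cancel, AddChar.map_zero_eq_one]

/-- the average over the root groups of `3a+2b` and `b` -/
def avg : (Fin k → ℂ) →ₗ[ℂ] (Fin k → ℂ) :=
  (Fintype.card (F × F) : ℂ)⁻¹ • ∑ p : F × F, C.ρ (X 6 p.1 * X 11 p.2)

theorem avg_apply (x : Fin k → ℂ) :
    C.avg x = (Fintype.card (F × F) : ℂ)⁻¹ • ∑ p : F × F, C.ρ (X 6 p.1 * X 11 p.2) x := by
  simp [avg]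

theorem avg_comm {g : Grp F} (σ : F × F → F × F) (hσ : Function.Bijective σ)
    (h : ∀ p : F × F, g * (X 6 p.1 * X 11 p.2) = X 6 (σ p).1 * X 11 (σ p).2 * g) (x : Fin k → ℂ) :
    C.ρ g (C.avg x) = C.avg (C.ρ g x) := by
  rw [avg_apply, avg_apply, map_smul, map_sum]
  congr 1
  refine Fintype.sum_bijective σ hσ _ _ fun p => ?_
  rw [← C.apply_mul, h, C.apply_mul]

/-- the fixed space of the two root groups -/
def Y : Submodule ℂ (Fin k → ℂ) := C.es [(6, 0), (11, 0)]

theorem avg_of_mem {x : Fin k → ℂ} (hx : x ∈ C.Y) : C.avg x = x := by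
  have h : ∀ p : F × F, C.ρ (X 6 p.1 * X 11 p.2) x = x := fun p => by
    rw [C.apply_mul, C.act_of_zero hx (by simp), C.act_of_zero hx (by simp)]
  rw [avg_apply, Finset.sum_congr rfl fun p _ => h p, Finset.sum_const, Finset.card_univ,
    ← Nat.cast_smul_eq_nsmul ℂ, inv_smul_smul₀ (Nat.cast_ne_zero.mpr Fintype.card_ne_zero)]

theorem comm_6_11 (a b : F) : (X 6 a : Grp F) * X 11 b = X 11 b * X 6 a := by
  have h := conj_comm (F := F) (show commB (6 : Rt) (11 : Rt) = true by decide +kernel) a b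
  calc (X 6 a : Grp F) * X 11 b = X 6 a * ((X 6 a)⁻¹ * X 11 b * X 6 a) := by rw [h]
    _ = _ := by group

theorem avg_mem (x : Fin k → ℂ) : C.avg x ∈ C.Y := by
  rw [Y, mem_es]
  intro p hp u
  simp only [List.mem_cons, List.not_mem_nil, or_false] at hp
  rcases hp with rfl | rfl
  · rw [zero_mul, AddChar.map_zero_eq_one, one_smul, avg_apply, map_smul, map_sum]
    congr 1
    refine Fintype.sum_equiv ((Equiv.addLeft u).prodCongr (Equiv.refl F)) _ _ fun p => ?_
    rw [← C.apply_mul]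
    simp only [Equiv.prodCongr_apply, Prod.map, Equiv.coe_addLeft, Equiv.refl_apply, X_add, mul_assoc]
  · rw [zero_mul, AddChar.map_zero_eq_one, one_smul, avg_apply, map_smul, map_sum]
    congr 1
    refine Fintype.sum_equiv ((Equiv.refl F).prodCongr (Equiv.addLeft u)) _ _ fun p => ?_
    rw [← C.apply_mul]
    simp only [Equiv.prodCongr_apply, Prod.map, Equiv.coe_addLeft, Equiv.refl_apply]
    rw [← mul_assoc, ← comm_6_11, mul_assoc, ← X_add]

theorem avg_absorb (a : F) (x : Fin k → ℂ) : C.avg (C.ρ (X 6 a) x) = C.avg x := by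
  rw [avg_apply, avg_apply]
  congr 1
  refine Fintype.sum_equiv ((Equiv.addRight a).prodCongr (Equiv.refl F)) _ _ fun p => ?_
  rw [← C.apply_mul]
  simp only [Equiv.prodCongr_apply, Prod.map, Equiv.coe_addRight, Equiv.refl_apply]
  rw [mul_assoc, ← comm_6_11, ← mul_assoc, ← X_add]

theorem avg_ten (s : F) (x : Fin k → ℂ) : C.ρ (X 10 s) (C.avg x) = C.avg (C.ρ (X 10 s) x) := by
  refine C.avg_comm (fun p => (p.1, p.2 + -s * p.1)) ?_ (fun p => ?_) x
  · exact (((Equiv.refl F).prodShear fun a => Equiv.addRight (-s * a))).bijective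
  · have h := conj_10_6 (-s) p.1
    have hc := conj_comm (F := F) (show commB (10 : Rt) (11 : Rt) = true by decide +kernel) (-s) p.2
    rw [← X_neg, neg_neg] at h hc
    calc (X 10 s : Grp F) * (X 6 p.1 * X 11 p.2)
        = (X 10 s * X 6 p.1 * (X 10 s)⁻¹) * (X 10 s * X 11 p.2 * (X 10 s)⁻¹) * X 10 s := by group
      _ = _ := by
        rw [← X_neg, h, hc, mul_assoc (X 6 p.1), ← X_add, add_comm (-s * p.1)]

theorem avg_one (s : F) (x : Fin k → ℂ) : C.ρ (X 1 s) (C.avg x) = C.avg (C.ρ (X 1 s) x) := by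
  refine C.avg_comm (fun p => (p.1 + -s * p.2, p.2)) ?_ (fun p => ?_) x
  · exact ⟨fun p q h => by
      simp only [Prod.mk.injEq] at h
      obtain ⟨h1, h2⟩ := h
      rw [h2] at h1
      exact Prod.ext (add_right_cancel h1) h2,
      fun p => ⟨(p.1 - -s * p.2, p.2), by simp⟩⟩
  · have h := conj_1_11 (-s) p.2
    have hc := conj_comm (F := F) (show commB (1 : Rt) (6 : Rt) = true by decide +kernel) (-s) p.1
    rw [← X_neg, neg_neg] at h hc
    calc (X 1 s : Grp F) * (X 6 p.1 * X 11 p.2)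
        = (X 1 s * X 6 p.1 * (X 1 s)⁻¹) * (X 1 s * X 11 p.2 * (X 1 s)⁻¹) * X 1 s := by group
      _ = _ := by
        rw [← X_neg, h, hc, ← comm_6_11, ← mul_assoc (X 6 p.1), ← X_add]

/-- the word of the reflection interchanging `b` and `3a+2b` -/
def nB : Grp F := nwG [0, 1, 0]

theorem nB_cert : wact [0, 1, 0] (6 : Rt) = 11 ∧ wact [0, 1, 0] (11 : Rt) = 6 ∧
    wact [0, 1, 0] (5 : Rt) = 0 ∧ wact [0, 1, 0] (7 : Rt) = 2 := by decide +kernel

theorem nB_conj (s : Rt) :
    ∃ e : F, e * e = 1 ∧ ∀ t, (nB : Grp F) * X s t * (nB)⁻¹ = X (wact [0, 1, 0] s) (e * t) := by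
  obtain ⟨e, he, h⟩ := (R F).nw_conj ([0, 1, 0] : List Si) s
  exact ⟨e, he, fun t => (h t).trans (congrArg (fun z => X z (e * t)) (actw_eq [0, 1, 0] s))⟩

theorem avg_nB (x : Fin k → ℂ) : C.ρ nB (C.avg x) = C.avg (C.ρ nB x) := by
  obtain ⟨e, he, h⟩ := nB_conj (F := F) 6
  obtain ⟨e', he', h'⟩ := nB_conj (F := F) 11
  rw [nB_cert.1] at h
  rw [nB_cert.2.1] at h'
  refine C.avg_comm (fun p => (e' * p.2, e * p.1)) ?_ (fun p => ?_) x
  · refine Finite.injective_iff_bijective.mp fun p q hpq => ?_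
    simp only [Prod.mk.injEq] at hpq
    have h1 : e ≠ 0 := fun h0 => by simp [h0] at he
    have h2 : e' ≠ 0 := fun h0 => by simp [h0] at he'
    exact Prod.ext (mul_left_cancel₀ h1 hpq.2) (mul_left_cancel₀ h2 hpq.1)
  · calc (nB : Grp F) * (X 6 p.1 * X 11 p.2)
        = (nB * X 6 p.1 * nB⁻¹) * (nB * X 11 p.2 * nB⁻¹) * nB := by group
      _ = _ := by rw [h, h', ← comm_6_11]

theorem nw_conj_mem_H (w : List Si) {h : Grp F} (hh : h ∈ (R F).H) :
    (nwG w : Grp F) * h * (nwG w)⁻¹ ∈ (R F).H := by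
  induction w with
  | nil =>
    rw [show (nwG ([] : List Si) : Grp F) = 1 from rfl, one_mul, inv_one, mul_one]
    exact hh
  | cons i w ih =>
    have := (R F).n_conj_mem_H i ih
    rw [show (nwG (i :: w) : Grp F) = (R F).n i * nwG w from (R F).nw_cons i w]
    simpa [mul_assoc] using this

theorem nB_inv_mem {y : Fin k → ℂ} (hy : y ∈ C.Y) : C.ρ nB⁻¹ y ∈ C.Y := by
  refine C.map_mem_es fun p hp u => ?_
  simp only [List.mem_cons, List.not_mem_nil, or_false] at hp
  rw [inv_inv]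
  obtain ⟨e, -, h⟩ := nB_conj (F := F) p.1
  rw [h u]
  rcases hp with rfl | rfl
  · rw [nB_cert.1, C.act_of_zero hy (by simp), zero_mul, AddChar.map_zero_eq_one, one_smul]
  · rw [nB_cert.2.1, C.act_of_zero hy (by simp), zero_mul, AddChar.map_zero_eq_one, one_smul]

theorem one_mem_Y {y : Fin k → ℂ} (hy : y ∈ C.Y) (s : F) : C.ρ (X 1 s) y ∈ C.Y := by
  refine C.map_mem_es fun p hp u => ?_
  simp only [List.mem_cons, List.not_mem_nil, or_false] at hp
  rcases hp with rfl | rfl
  · rw [conj_comm (show commB (1 : Rt) (6 : Rt) = true by decide +kernel), C.act_of_zero hy (by simp),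
      zero_mul, AddChar.map_zero_eq_one, one_smul]
  · rw [conj_1_11, C.apply_mul, C.act_of_zero hy (by simp), C.act_of_zero hy (by simp), zero_mul,
      AddChar.map_zero_eq_one, one_smul]

theorem X5_eq {a : F} (ha : a ≠ 0) :
    (X 5 a : Grp F) = X 6 a⁻¹ * (R F).nr 6 (-a⁻¹) * X 6 a⁻¹ := by
  have h : (R F).nr 6 (-a⁻¹) = X 6 (-a⁻¹) * X 5 a * X 6 (-a⁻¹) := by
    show X 6 (-a⁻¹) * X (TypeG2.model.S.neg 6) (-(-a⁻¹)⁻¹) * X 6 (-a⁻¹) = _
    rw [show (TypeG2.model.S.neg 6 : Rt) = 5 from negR_neg 6, inv_neg, inv_inv, neg_neg]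
    all_goals rfl
  rw [h, X_neg]
  group

theorem nr_six (c : F) : (R F).nr 6 c = (R F).hr 6 c * nwG [1] := by
  refine ((R F).nr_eq 6 c).trans (congrArg _ ?_)
  exact (mul_one _).symm

theorem avg_five {y : Fin k → ℂ} (hy : y ∈ C.Y) (h0 : C.m [(10, 0), (6, 0), (11, 0)] = 0) {a : F}
    (ha : a ≠ 0) : C.avg (C.ρ (X 5 a) y) = 0 := by
  have hc : (-a⁻¹ : F) ≠ 0 := neg_ne_zero.mpr (inv_ne_zero ha)
  rw [X5_eq ha, C.apply_mul, C.apply_mul, C.act_of_zero hy (by simp), C.avg_absorb]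
  set n := (R F).nr 6 (-a⁻¹) with hn
  have h10 : ∀ u, C.ρ (X 10 u) (C.ρ n y) = C.ρ n y := by
    intro u
    have hh := (R F).hr_mem_H (r := (6 : Rt)) hc
    obtain ⟨e, he⟩ := (R F).nw_inv_conj_x ([1] : List Si) 10 ((χ ((R F).hr 6 (-a⁻¹)) 10)⁻¹ * u)
    have key : n⁻¹ * X 10 u * n = X 11 (e * ((χ ((R F).hr 6 (-a⁻¹)) 10)⁻¹ * u)) := by
      rw [hn, nr_six]
      calc ((R F).hr 6 (-a⁻¹) * nwG [1])⁻¹ * X 10 u * ((R F).hr 6 (-a⁻¹) * nwG [1])
          = (nwG [1])⁻¹ * (((R F).hr 6 (-a⁻¹))⁻¹ * X 10 u * (R F).hr 6 (-a⁻¹)) * nwG [1] := by group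
        _ = (nwG [1])⁻¹ * X 10 ((χ ((R F).hr 6 (-a⁻¹)) 10)⁻¹ * u) * nwG [1] :=
          congrArg (fun z => (nwG [1])⁻¹ * z * nwG [1]) (torus_inv_conj hh 10 u)
        _ = _ := by
          refine he.trans (congrArg (fun z => X z _) ?_)
          exact (actw_eq ([1] : List Si).reverse 10).trans (show wact ([1] : List Si) (10 : Rt) = (11 : Rt) by decide +kernel)
    have e1 : X 10 u * n = n * X 11 (e * ((χ ((R F).hr 6 (-a⁻¹)) 10)⁻¹ * u)) := by rw [← key]; group
    rw [← C.apply_mul, e1, C.apply_mul, C.act_of_zero hy (by simp)]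
  have hmem : C.avg (C.ρ n y) ∈ C.es [(10, 0), (6, 0), (11, 0)] := by
    refine ⟨fun u => ?_, C.avg_mem _⟩
    rw [zero_mul, AddChar.map_zero_eq_one, one_smul, C.avg_ten, h10]
  have hbot : C.es [((10 : Rt), (0 : F)), (6, 0), (11, 0)] = ⊥ := by
    apply Submodule.finrank_eq_zero.mp
    rw [← h0]
    show _ = Module.finrank ℂ ↥((⊤ : Submodule ℂ (Fin k → ℂ)) ⊓ _)
    rw [top_inf_eq]
  rw [hbot] at hmem
  exact (Submodule.mem_bot ℂ).mp hmem

/-- translates of the fixed space by the opposite root groups project to zero -/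
theorem avg_translate {y : Fin k → ℂ} (hy : y ∈ C.Y) (h0 : C.m [(10, 0), (6, 0), (11, 0)] = 0)
    {a r : F} (h : a ≠ 0 ∨ r ≠ 0) : C.avg (C.ρ (X 5 a * X 0 r) y) = 0 := by
  by_cases ha : a = 0
  · subst ha
    have hr : r ≠ 0 := h.resolve_left (fun h => h rfl)
    obtain ⟨e, he, hconj⟩ := nB_conj (F := F) 5
    rw [nB_cert.2.2.1] at hconj
    have hne : e ≠ 0 := fun h0 => by simp [h0] at he
    have e1 : (X 0 r : Grp F) = nB * X 5 (e * r) * nB⁻¹ := by
      rw [hconj, ← mul_assoc, he, one_mul]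
    rw [X_zero, one_mul, e1, C.apply_mul, C.apply_mul, ← C.avg_nB,
      C.avg_five (C.nB_inv_mem hy) h0 (mul_ne_zero hne hr), map_zero]
  · have e1 : (X 5 a * X 0 r : Grp F) = (X 1 (-r / a))⁻¹ * X 5 a * X 1 (-r / a) := by
      rw [conj_1_5]; congr 2; field_simp
    rw [e1, C.apply_mul, C.apply_mul, ← X_neg, ← C.avg_one, C.avg_five (C.one_mem_Y hy _) h0 ha,
      map_zero]

/-- the eigenspace of an element -/
def eigenW (t : Grp F) (η : ℂ) : Submodule ℂ (Fin k → ℂ) :=
  LinearMap.ker (C.ρ t - η • LinearMap.id)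

theorem mem_eigenW {t : Grp F} {η : ℂ} {x : Fin k → ℂ} :
    x ∈ C.eigenW t η ↔ C.ρ t x = η • x := by
  simp [eigenW, sub_eq_zero]

theorem eigenW_map {t : Grp F} {η : ℂ} {g : Grp F} (h : t * g = g * t) {x : Fin k → ℂ}
    (hx : x ∈ C.eigenW t η) : C.ρ g x ∈ C.eigenW t η := by
  rw [mem_eigenW] at hx ⊢
  rw [← C.apply_mul, h, C.apply_mul, hx, map_smul]

theorem small_six (hS : C.Small) (h3 : (3 : F) ≠ 0) (a : F) (ha : a ≠ 0) :
    C.m [(6, a), (11, 0)] = Fintype.card F := by
  rw [← C.S_eq, C.S_ne_zero h3 ha, hS.mu_one, mul_one]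

open Classical in
theorem small_line (hS : C.Small) (d : F) :
    C.m [(10, d), (6, 0), (11, 0)] = if d = 0 then C.D 0 0 0 0 else 1 := by
  classical
  rw [C.m_splitQ 8 _ (by decide) (by simp [QR]) (by simp)]
  rw [Finset.sum_eq_single (0 : F)]
  · rw [C.m_splitQ 9 _ (by decide) (by simp [QR]) (by simp), Finset.sum_eq_single (0 : F)]
    · have e : C.m [(9, 0), (8, 0), (10, d), (6, 0), (11, 0)] = C.D 0 0 0 d :=
        C.md_eq_of_mem_iff fun p => by simp only [List.mem_cons, List.not_mem_nil, or_false]; tauto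
      rw [e]
      split
      · subst d; rfl
      · exact hS.top d ‹_›
    · intro c _ hc
      have e : C.m [(9, c), (8, 0), (10, d), (6, 0), (11, 0)] = C.D 0 0 c d :=
        C.md_eq_of_mem_iff fun p => by simp only [List.mem_cons, List.not_mem_nil, or_false]; tauto
      rw [e]; exact hS.other 0 c d fun h => hc h.2
    · simp
  · intro b _ hb
    rw [C.m_splitQ 9 _ (by decide) (by simp [QR]) (by simp)]
    refine Finset.sum_eq_zero fun c _ => ?_
    have e : C.m [(9, c), (8, b), (10, d), (6, 0), (11, 0)] = C.D 0 b c d :=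
      C.md_eq_of_mem_iff fun p => by simp only [List.mem_cons, List.not_mem_nil, or_false]; tauto
    rw [e]; exact hS.other b c d fun h => hb h.1
  · simp

theorem cusp_false (hS : C.Small) (h3 : (3 : F) ≠ 0) (hq : 5 ≤ Fintype.card F)
    (hmod : Fintype.card F % 3 = 1) (h00 : C.D 0 0 0 0 = 0) : False := by
  classical
  obtain ⟨ω, hω⟩ : ∃ ω : Fˣ, orderOf ω = 3 := by
    haveI : Fact (Nat.Prime 3) := ⟨by norm_num⟩
    refine exists_prime_orderOf_dvd_card 3 ?_
    rw [Fintype.card_units]; omega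
  have hω3 : ω ^ 3 = 1 := hω ▸ pow_orderOf_eq_one ω
  have hω2 : ω ^ 2 ≠ 1 := fun h => by
    have := Nat.le_of_dvd (by norm_num) (orderOf_dvd_of_pow_eq_one h); omega
  set t := (tor ω (1 : Fˣ)).1 with htdef
  have htH : t ∈ (R F).H := (tor ω 1).2
  have hχ : ∀ s : Rt, χ t s = ((ev2 ω 1 (cfv s) : Fˣ) : F) := fun s => chi_tor ω 1 s
  have hχpos : ∀ s ∈ [(6 : Rt), 10, 11], χ t s = 1 := by
    intro s hs
    simp only [List.mem_cons, List.not_mem_nil, or_false] at hs
    rcases hs with rfl | rfl | rfl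
    · rw [hχ, ev_six, Units.val_one]
    · rw [hχ, ev_ten, hω3, one_mul, Units.val_one]
    · rw [hχ, ev_eleven, hω3, one_pow, one_mul, Units.val_one]
  have hχlong : ∀ s ∈ [(6 : Rt), 10, 11, 5, 1, 0], χ t s = 1 := by
    intro s hs
    simp only [List.mem_cons, List.not_mem_nil, or_false] at hs
    rcases hs with rfl | rfl | rfl | rfl | rfl | rfl
    · exact hχpos _ (by simp)
    · exact hχpos _ (by simp)
    · exact hχpos _ (by simp)
    · rw [show (5 : Rt) = negR 6 by decide, chi_negR htH, hχpos _ (by simp), inv_one]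
    · rw [show (1 : Rt) = negR 10 by decide, chi_negR htH, hχpos _ (by simp), inv_one]
    · rw [show (0 : Rt) = negR 11 by decide, chi_negR htH, hχpos _ (by simp), inv_one]
  have hcomm : ∀ s ∈ [(6 : Rt), 10, 11, 5, 1, 0], ∀ u, t * X s u = X s u * t := by
    intro s hs u
    have := conj_X htH s u
    rw [hχlong s hs, one_mul] at this
    rwa [← mul_inv_eq_iff_eq_mul]
  have hnB : t * nB = nB * t := by
    have ha : (nB : Grp F) * t * nB⁻¹ ∈ (R F).H := nw_conj_mem_H [0, 1, 0] htH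
    have heq : (nB : Grp F) * t * nB⁻¹ = t := by
      have hval : ∀ s : Rt, χ ((nB : Grp F) * t * nB⁻¹) (wact [0, 1, 0] s) = χ t s :=
        fun s => chi_conj [0, 1, 0] htH s
      have h7 := hval 2
      rw [show wact [0, 1, 0] (2 : Rt) = 7 by decide +kernel, show (2 : Rt) = negR 9 by decide,
        chi_negR htH, hχ 9, ev_nine, mul_one] at h7
      have h6 := hval 11
      rw [nB_cert.2.1, hχpos 11 (by simp)] at h6
      have e : psi2 ⟨_, ha⟩ = psi2 ⟨t, htH⟩ := by
        refine Prod.ext (Units.ext ?_) (Units.ext ?_)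
        · have a1 : χ ((nB : Grp F) * t * nB⁻¹) 7 = ((psi2 ⟨_, ha⟩).1 : F) :=
            (chi_eq ⟨_, ha⟩ 7).trans (congrArg Units.val (ev_seven _ _))
          have a2 : χ t 7 = ((psi2 ⟨t, htH⟩).1 : F) :=
            (chi_eq ⟨t, htH⟩ 7).trans (congrArg Units.val (ev_seven _ _))
          rw [← a1, ← a2, h7, hχ 7, ev_seven]
          rw [← Units.val_inv_eq_inv_val]
          refine congrArg Units.val (inv_eq_of_mul_eq_one_right ?_)
          rw [← pow_succ, hω3]
        · have a1 : χ ((nB : Grp F) * t * nB⁻¹) 6 = ((psi2 ⟨_, ha⟩).2 : F) :=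
            (chi_eq ⟨_, ha⟩ 6).trans (congrArg Units.val (ev_six _ _))
          have a2 : χ t 6 = ((psi2 ⟨t, htH⟩).2 : F) :=
            (chi_eq ⟨t, htH⟩ 6).trans (congrArg Units.val (ev_six _ _))
          rw [← a1, ← a2, h6, hχpos 6 (by simp)]
      exact congrArg Subtype.val (psi2_injective e)
    calc t * nB = (nB * t * (nB : Grp F)⁻¹) * nB := by rw [heq]
      _ = nB * t := by group
  have hline : ∀ d : F, d ≠ 0 → C.m [(10, d), (6, 0), (11, 0)] = 1 := fun d hd => by
    rw [C.small_line hS, if_neg hd]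
  have hlinef : ∀ L, C.m L = Module.finrank ℂ (C.es L) := fun L => by
    show Module.finrank ℂ ↥((⊤ : Submodule ℂ (Fin k → ℂ)) ⊓ _) = _
    rw [top_inf_eq]
  -- the eigenvalue on the first line
  have h1 : Module.finrank ℂ (C.es [((10 : Rt), (1 : F)), (6, 0), (11, 0)]) = 1 := by
    rw [← hlinef]; exact hline 1 one_ne_zero
  obtain ⟨⟨x₁, hx₁⟩, hx₁0, hspan⟩ := finrank_eq_one_iff'.mp h1
  have hx₁0' : x₁ ≠ 0 := fun h => hx₁0 (Subtype.ext h)
  have htx : C.ρ t x₁ ∈ C.es [((10 : Rt), (1 : F)), (6, 0), (11, 0)] := by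
    refine C.torus_map htH ?_
    simpa [hχpos] using hx₁
  obtain ⟨η, hη⟩ := hspan ⟨_, htx⟩
  have hη' : C.ρ t x₁ = η • x₁ := (congrArg Subtype.val hη).symm
  set W := C.eigenW t η with hWdef
  have hWX : ∀ s ∈ [(6 : Rt), 10, 11, 5, 1, 0], ∀ u, ∀ x ∈ W, C.ρ (X s u) x ∈ W :=
    fun s hs u x hx => C.eigenW_map (hcomm s hs u) hx
  have hWn : ∀ x ∈ W, C.ρ (nwG [0, 1, 0]) x ∈ W := fun x hx => C.eigenW_map hnB hx
  have hWn' : ∀ x ∈ W, C.ρ (nwG [0, 1, 0])⁻¹ x ∈ W := fun x hx =>
    C.eigenW_map ((Commute.inv_right hnB : Commute t nB⁻¹)) hx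
  have hWh : ∀ h : Grp F, h ∈ (R F).H → ∀ x ∈ W, C.ρ h x ∈ W := fun h hh x hx =>
    C.eigenW_map (H_commute htH hh) hx
  -- the fixed space lies in the eigenspace
  have hlineW : ∀ d : F, d ≠ 0 → 1 ≤ C.md W [(10, d), (6, 0), (11, 0)] := by
    intro d hd
    have hx : C.ρ (tor 1 (Units.mk0 d hd)⁻¹).1 x₁ ∈ C.es [((10 : Rt), d), (6, 0), (11, 0)] := by
      refine C.torus_map (tor 1 (Units.mk0 d hd)⁻¹).2 ?_
      simpa [chi_tor, ev_ten, hd] using hx₁
    have hW : C.ρ (tor 1 (Units.mk0 d hd)⁻¹).1 x₁ ∈ W :=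
      hWh _ (tor _ _).2 x₁ ((C.mem_eigenW).mpr hη')
    rw [md, Nat.one_le_iff_ne_zero]
    intro h0
    have hbot := Submodule.finrank_eq_zero.mp h0
    have := (Submodule.eq_bot_iff _).mp hbot _ ⟨hW, hx⟩
    exact hx₁0' (C.injective _ (this.trans (map_zero _).symm))
  have hq1 : (Finset.univ.erase (0 : F)).card = Fintype.card F - 1 := by
    rw [Finset.card_erase_of_mem (Finset.mem_univ _), Finset.card_univ]
  have hYdim : Module.finrank ℂ C.Y = Fintype.card F - 1 := by
    rw [Y, ← hlinef, C.m_splitQ 10 _ (by decide) (by simp [QR]) (by simp),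
      ← Finset.add_sum_erase _ _ (Finset.mem_univ (0 : F)),
      Finset.sum_congr rfl fun d hd => hline d (Finset.ne_of_mem_erase hd),
      C.small_line hS, if_pos rfl, h00, zero_add, Finset.sum_const, hq1, smul_eq_mul, mul_one]
  have hYW : C.Y ≤ W := by
    have hge : Fintype.card F - 1 ≤ C.md W [(6, 0), (11, 0)] := by
      rw [C.md_splitQ W 10 _ (hWX 10 (by simp)) (by decide) (by simp [QR]) (by simp),
        ← Finset.add_sum_erase _ _ (Finset.mem_univ (0 : F))]
      calc Fintype.card F - 1 = ∑ d ∈ Finset.univ.erase (0 : F), 1 := by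
            rw [Finset.sum_const, hq1, smul_eq_mul, mul_one]
        _ ≤ ∑ d ∈ Finset.univ.erase (0 : F), C.md W [(10, d), (6, 0), (11, 0)] :=
            Finset.sum_le_sum fun d hd => hlineW d (Finset.ne_of_mem_erase hd)
        _ ≤ _ := Nat.le_add_left _ _
    have : W ⊓ C.Y = C.Y := Submodule.eq_of_le_of_finrank_le inf_le_right (by rw [hYdim]; exact hge)
    exact this ▸ inf_le_left
  -- the translates are independent
  let Φ : (F × F → C.Y) →ₗ[ℂ] W :=
    { toFun := fun f => ∑ p : F × F,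
        ⟨C.ρ (X 5 p.1 * X 0 p.2) (f p : Fin k → ℂ), C.eigenW_map
          (by rw [← mul_assoc, hcomm 5 (by simp), mul_assoc, hcomm 0 (by simp), ← mul_assoc]) (hYW (f p).2)⟩
      map_add' := fun f g => by
        rw [← Finset.sum_add_distrib]
        refine Finset.sum_congr rfl fun p _ => Subtype.ext ?_
        simp only [Pi.add_apply, Submodule.coe_add, map_add]
      map_smul' := fun c f => by
        rw [RingHom.id_apply, Finset.smul_sum]
        refine Finset.sum_congr rfl fun p _ => Subtype.ext ?_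
        simp only [Pi.smul_apply, SetLike.val_smul, map_smul] }
  have h10 : C.m [(10, 0), (6, 0), (11, 0)] = 0 := by rw [C.small_line hS, if_pos rfl, h00]
  have hΦ : Function.Injective Φ := by
    rw [injective_iff_map_eq_zero]
    intro f hf
    funext j
    have hf' : ∑ p : F × F, C.ρ (X 5 p.1 * X 0 p.2) (f p : Fin k → ℂ) = 0 := by
      have := congrArg Subtype.val hf
      simpa [Φ] using this
    have h50 : ∀ a b : F, (X 0 b : Grp F) * X 5 a = X 5 a * X 0 b := fun a b => by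
      have h := conj_comm (F := F) (show commB (5 : Rt) (0 : Rt) = true by decide +kernel) a b
      calc (X 0 b : Grp F) * X 5 a = X 5 a * ((X 5 a)⁻¹ * X 0 b * X 5 a) := by group
        _ = _ := by rw [h]
    have hj := congrArg (fun z => C.avg (C.ρ (X 5 j.1 * X 0 j.2)⁻¹ z)) hf'
    simp only [map_zero, map_sum, ← C.apply_mul] at hj
    rw [Finset.sum_eq_single j] at hj
    · rw [inv_mul_cancel, map_one] at hj
      exact Subtype.ext ((C.avg_of_mem (f j).2).symm.trans hj)
    · intro p _ hp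
      have e : (X 5 j.1 * X 0 j.2 : Grp F)⁻¹ * (X 5 p.1 * X 0 p.2) =
          X 5 (p.1 - j.1) * X 0 (p.2 - j.2) := by
        calc (X 5 j.1 * X 0 j.2 : Grp F)⁻¹ * (X 5 p.1 * X 0 p.2)
            = X 0 (-j.2) * (X 5 (-j.1) * X 5 p.1) * X 0 p.2 := by rw [X_neg, X_neg]; group
          _ = X 5 (-j.1 + p.1) * (X 0 (-j.2) * X 0 p.2) := by rw [← X_add, h50, mul_assoc]
          _ = _ := by rw [← X_add]; congr 2 <;> ring
      rw [e]
      refine C.avg_translate (f p).2 h10 ?_
      by_contra hcon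
      push Not at hcon
      exact hp (Prod.ext (sub_eq_zero.mp hcon.1) (sub_eq_zero.mp hcon.2))
    · simp
  have hlow : Fintype.card F * Fintype.card F * (Fintype.card F - 1) ≤ Module.finrank ℂ W := by
    refine le_trans (le_of_eq ?_) (LinearMap.finrank_le_finrank_of_injective hΦ)
    rw [Module.finrank_pi_fintype, Finset.sum_const, Finset.card_univ, Fintype.card_prod, hYdim,
      smul_eq_mul]
  -- the upper bound
  set x0 := C.md W [(6, 0), (11, 1)] with hx0
  have hshift : ∀ a l : F, l ≠ 0 → C.md W [(6, a), (11, l)] = x0 := by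
    intro a l hl
    have hmap : ∀ (a' s : F) (x : Fin k → ℂ), x ∈ C.es [(6, a'), (11, l)] →
        C.ρ (X 10 s) x ∈ C.es [(6, a' + l * s), (11, l)] := by
      intro a' s x hx
      have h6 := C.act_of_mem hx (s := (6 : Rt)) (a := a') (by simp)
      have h11 := C.act_of_mem hx (s := (11 : Rt)) (a := l) (by simp)
      refine C.map_mem_es fun p hp u => ?_
      simp only [List.mem_cons, List.not_mem_nil, or_false] at hp
      rcases hp with rfl | rfl
      · simp only [conj_10_6, C.apply_mul, h11, map_smul, h6, smul_smul, ← AddChar.map_add_eq_mul]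
        congr 2; ring
      · rw [conj_comm (show commB (10 : Rt) (11 : Rt) = true by decide +kernel), h11]
    have e1 : C.md W [(6, a), (11, l)] = C.md W [(6, 0), (11, l)] := by
      refine C.md_eq_of_pair (X 10 (-a / l)) (X 10 (a / l)) (fun x hx => hWX 10 (by simp) _ x hx)
        (fun x hx => hWX 10 (by simp) _ x hx) (fun x hx => ?_) fun x hx => ?_
      · have := hmap a (-a / l) x hx
        rwa [show a + l * (-a / l) = 0 by field_simp; ring] at this
      · have := hmap 0 (a / l) x hx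
        rwa [show 0 + l * (a / l) = a by field_simp; ring] at this
    rw [e1, hx0]
    set U := Units.mk0 l hl
    rw [← C.md_torus W (tor U U⁻¹).2 (hWh _ (tor U U⁻¹).2) (hWh _ (inv_mem (tor U U⁻¹).2))
      [(6, 0), (11, 1)]]
    congr 1
    simp only [List.map_cons, List.map_nil, chi_tor, ev_six, ev_eleven, zero_mul, one_mul, U,
      Units.val_mul, Units.val_pow_eq_pow_val, Units.val_inv_eq_inv_val, Units.val_mk0]
    congr 3
    field_simp
  have hWl : ∀ l : F, l ≠ 0 → C.md W [(11, l)] = Fintype.card F * x0 := by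
    intro l hl
    rw [C.md_split_comm W 6 _ (hWX 6 (by simp)) (by
      simp only [List.mem_cons, List.not_mem_nil, or_false]
      rintro p rfl
      show commB (6 : Rt) (11 : Rt) = true; decide +kernel)]
    rw [Finset.sum_congr rfl fun a _ => hshift a l hl, Finset.sum_const, Finset.card_univ, smul_eq_mul]
  have hW6 : C.md W [(6, 1)] = Fintype.card F * x0 := by
    obtain ⟨e, he, h⟩ := C.md_nw W [0, 1, 0] hWn hWn'
    have e1 := h [(6, 1)]
    simp only [List.map_cons, List.map_nil, nB_cert.1, mul_one] at e1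
    rw [e1]
    exact hWl _ fun h0 => by simpa [h0] using he 6
  have hy : C.md W [(6, 1), (11, 0)] = x0 := by
    have e1 : C.md W [(6, 1)] = ∑ l : F, C.md W [(6, 1), (11, l)] := by
      rw [C.md_split_comm W 11 _ (hWX 11 (by simp)) (by
        simp only [List.mem_cons, List.not_mem_nil, or_false]
        rintro p rfl
        show commB (11 : Rt) (6 : Rt) = true; decide +kernel)]
      refine Finset.sum_congr rfl fun l _ => C.md_eq_of_mem_iff fun p => ?_
      simp only [List.mem_cons, List.not_mem_nil, or_false]; tauto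
    rw [hW6, ← Finset.add_sum_erase _ _ (Finset.mem_univ (0 : F)),
      Finset.sum_congr rfl fun l hl => hshift 1 l (Finset.ne_of_mem_erase hl), Finset.sum_const, hq1,
      smul_eq_mul] at e1
    obtain ⟨n, hn⟩ : ∃ n, Fintype.card F = n + 1 := ⟨Fintype.card F - 1, by omega⟩
    rw [hn, Nat.add_sub_cancel, Nat.succ_mul] at e1
    omega
  -- two characters that are moved by `t`
  have hmove : ∀ z : F, z ≠ 0 →
      C.md W [(10, -(z ^ 3)⁻¹), (6, 1), (11, 0)] + 1 ≤ C.m [(10, -(z ^ 3)⁻¹), (6, 1), (11, 0)] := by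
    intro z hz
    set d := -(z ^ 3)⁻¹ with hd
    have hd0 : d ≠ 0 := neg_ne_zero.mpr (inv_ne_zero (pow_ne_zero 3 hz))
    have hDone : C.D 1 (-(3 * z ^ 2 * d)) (-(3 * z * d)) d = 1 := by
      refine (?_ : _ = C.D 0 0 0 d).trans (hS.top d hd0)
      rw [← C.D_trans z 0 0 0 d]
      congr 1
      · rw [hd]; field_simp; ring
      · ring
      · ring
    set L := [((10 : Rt), d), (6, (1 : F)), (11, (0 : F))]
    by_contra hcon
    have heq : W ⊓ C.es L = C.es L := by
      refine Submodule.eq_of_le_of_finrank_le inf_le_right ?_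
      refine le_trans (le_of_eq (hlinef L).symm) ?_
      exact not_lt.mp (show ¬ (C.md W L < C.m L) from hcon)
    set c := -(3 * z * d) with hc
    obtain ⟨x, hx, hx0'⟩ : ∃ x ∈ C.es [(10, d), (9, c), (8, -(3 * z ^ 2 * d)), (6, 1), (11, 0)],
        x ≠ (0 : Fin k → ℂ) := by
      refine Submodule.exists_mem_ne_zero_of_ne_bot fun hb => ?_
      have e : C.D 1 (-(3 * z ^ 2 * d)) (-(3 * z * d)) d = 0 := by
        rw [D, hlinef, ← hc, hb, finrank_bot]
      exact absurd (hDone.symm.trans e) one_ne_zero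
    have hxL : x ∈ C.es L := by
      rw [mem_es] at hx ⊢
      intro p hp
      refine hx p ?_
      simp only [L, List.mem_cons, List.not_mem_nil, or_false] at hp ⊢
      tauto
    have hxW : x ∈ W := (heq.symm ▸ hxL : x ∈ W ⊓ C.es L).1
    have htx' : C.ρ t x ∈ C.es [((9 : Rt), c * (χ t 9)⁻¹)] := by
      refine C.torus_map htH ?_
      rw [mem_es]
      intro p hp u
      simp only [List.map_cons, List.map_nil, List.mem_cons, List.not_mem_nil, or_false] at hp
      subst hp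
      rw [mul_assoc c, inv_mul_cancel₀ (chi_ne_zero htH _), mul_one]
      exact C.act_of_mem hx (by simp) u
    rw [(C.mem_eigenW).mp hxW] at htx'
    have hη0 : η • x ≠ 0 := by
      rw [← (C.mem_eigenW).mp hxW]
      exact fun h => hx0' (C.injective t (h.trans (map_zero _).symm))
    have := C.eigen_unique hη0 (fun u => C.act_of_mem htx' (s := (9 : Rt)) (by simp) u) (a := c * (χ t 9)⁻¹) (b := c)
      (fun u => by rw [map_smul, C.act_of_mem hx (s := (9 : Rt)) (a := c) (by simp) u, smul_comm])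
    have hc0 : c ≠ 0 := neg_ne_zero.mpr (mul_ne_zero (mul_ne_zero h3 hz) hd0)
    have h9 : (χ t 9)⁻¹ = 1 := mul_left_cancel₀ hc0 (this.trans (mul_one c).symm)
    rw [hχ, ev_nine, mul_one, inv_eq_one, Units.val_eq_one] at h9
    exact hω2 h9
  obtain ⟨g, -, -, hg3⟩ := exists_unit (F := F) hq
  have hxle : x0 + 2 ≤ Fintype.card F := by
    rw [← hy, ← C.small_six hS h3 1 one_ne_zero,
      C.md_splitQ W 10 _ (hWX 10 (by simp)) (by decide) (by simp [QR]) (by simp),
      C.m_splitQ 10 _ (by decide) (by simp [QR]) (by simp)]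
    set d1 : F := -((1 : F) ^ 3)⁻¹
    set d2 : F := -((g : F) ^ 3)⁻¹
    have hne : d1 ≠ d2 := by
      intro h
      apply hg3
      apply Units.ext
      have := inv_injective (neg_injective h)
      rw [one_pow] at this
      rw [Units.val_pow_eq_pow_val, ← this, Units.val_one]
    have hm : d2 ∈ Finset.univ.erase d1 := Finset.mem_erase.mpr ⟨hne.symm, Finset.mem_univ _⟩
    rw [← Finset.add_sum_erase _ _ (Finset.mem_univ d1), ← Finset.add_sum_erase _ _ hm,
      ← Finset.add_sum_erase _ _ (Finset.mem_univ d1), ← Finset.add_sum_erase _ _ hm]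
    have e1 : C.md W [(10, d1), (6, 1), (11, 0)] + 1 ≤ C.m [(10, d1), (6, 1), (11, 0)] := hmove 1 one_ne_zero
    have e2 : C.md W [(10, d2), (6, 1), (11, 0)] + 1 ≤ C.m [(10, d2), (6, 1), (11, 0)] := hmove g g.ne_zero
    have e3 : ∑ x ∈ (Finset.univ.erase d1).erase d2, C.md W [(10, x), (6, 1), (11, 0)] ≤
        ∑ x ∈ (Finset.univ.erase d1).erase d2, C.m [(10, x), (6, 1), (11, 0)] :=
      Finset.sum_le_sum fun x _ => C.md_le_m W _
    omega
  have hdimW : Module.finrank ℂ W =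
      (Fintype.card F - 1) * (Fintype.card F * x0) + C.md W [(11, 0)] := by
    have e : Module.finrank ℂ W = C.md W [] := by
      show _ = Module.finrank ℂ ↥(W ⊓ ⊤)
      rw [inf_top_eq]
    rw [e, C.md_split_comm W 11 [] (hWX 11 (by simp)) (fun p hp => absurd hp List.not_mem_nil),
      ← Finset.add_sum_erase _ _ (Finset.mem_univ (0 : F)),
      Finset.sum_congr rfl fun l hl => hWl l (Finset.ne_of_mem_erase hl), Finset.sum_const, hq1,
      smul_eq_mul, add_comm]
  have h11 := C.md_le_m W [(11, 0)]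
  have hk := C.k_eq h3
  rw [hS.mu_one, mul_one] at hk
  have hk2 := C.k_eq_sum 11
  rw [← Finset.add_sum_erase _ _ (Finset.mem_univ (0 : F)),
    Finset.sum_congr rfl fun l hl => C.m_eleven h3 (Finset.ne_of_mem_erase hl), Finset.sum_const, hq1,
    smul_eq_mul, hS.mu_one, mul_one] at hk2
  have hdeg := hS.deg
  rw [h00, add_zero] at hdeg
  obtain ⟨n, hn⟩ : ∃ n, Fintype.card F = n + 1 := ⟨Fintype.card F - 1, by omega⟩
  rw [hn] at hdimW hlow hk2 hdeg hxle hq
  rw [Nat.add_sub_cancel] at hdimW hlow hk2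
  have hb : n * ((n + 1) * x0) + (n * (n + 1)) * 2 ≤ n * ((n + 1) * (n + 1)) := by
    have := Nat.mul_le_mul_left (n * (n + 1)) hxle
    linarith
  have : (n + 1) ^ 3 = n * ((n + 1) * (n + 1)) + n * (n + 1) + n + 1 := by ring
  nlinarith

end Ctx

end Cfsg.Agent.G2Deg54
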