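import Cfsg.Agent.G2Orders80.Unipotent
import Mathlib.NumberTheory.LegendreSymbol.AddCharacter
import Mathlib.RepresentationTheory.Basic
import Mathlib.LinearAlgebra.Trace

/-!
Joint eigenspaces of root groups of G2 in a complex representation: decomposition, transport and torus scaling.
-/

set_option autoImplicit false

noncomputable section

namespace Cfsg.Agent.G2Deg54

open Cfsg.Lie Cfsg.Agent.ChevGroup Cfsg.Agent.ChevCore Cfsg.Agent.G2Orders80

universe u

/-- a representation together with a primitive additive character -/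
structure Ctx (F : Type u) [Field F] [Fintype F] (k : ℕ) where
  ρ : Representation ℂ (Grp F) (Fin k → ℂ)
  ψ : AddChar F ℂ
  hψ : ψ.IsPrimitive

theorem trace_proj {V : Type} [AddCommGroup V] [Module ℂ V] [FiniteDimensional ℂ V] {p : Submodule ℂ V}
    {f : V →ₗ[ℂ] V} (h : LinearMap.IsProj p f) : LinearMap.trace ℂ V f = (Module.finrank ℂ p : ℂ) :=
  h.trace

namespace Ctx

variable {F : Type u} [Field F] [Fintype F] {k : ℕ} (C : Ctx F k)

/-- eigenspace of a root group -/
def ew (r : Rt) (a : F) : Submodule ℂ (Fin k → ℂ) where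
  carrier := {x | ∀ u : F, C.ρ (X r u) x = C.ψ (a * u) • x}
  add_mem' {x y} hx hy u := by rw [map_add, hx u, hy u, smul_add]
  zero_mem' u := by rw [map_zero, smul_zero]
  smul_mem' c x hx u := by rw [map_smul, hx u, smul_comm]

theorem mem_ew {r : Rt} {a : F} {x : Fin k → ℂ} :
    x ∈ C.ew r a ↔ ∀ u : F, C.ρ (X r u) x = C.ψ (a * u) • x := Iff.rfl

/-- joint eigenspace -/
def es : List (Rt × F) → Submodule ℂ (Fin k → ℂ)
  | [] => ⊤
  | p :: L => C.ew p.1 p.2 ⊓ es L

theorem mem_es {L : List (Rt × F)} {x : Fin k → ℂ} :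
    x ∈ C.es L ↔ ∀ p ∈ L, ∀ u : F, C.ρ (X p.1 u) x = C.ψ (p.2 * u) • x := by
  induction L with
  | nil => simp [es]
  | cons p L ih => simp only [es, Submodule.mem_inf, ih, List.forall_mem_cons, mem_ew]

/-- multiplicity of a joint character in a subspace -/
def md (W : Submodule ℂ (Fin k → ℂ)) (L : List (Rt × F)) : ℕ := Module.finrank ℂ ↥(W ⊓ C.es L)

/-- multiplicity of a joint character -/
abbrev m (L : List (Rt × F)) : ℕ := C.md ⊤ L

theorem m_nil : C.m [] = k := by
  show Module.finrank ℂ ↥((⊤ : Submodule ℂ (Fin k → ℂ)) ⊓ ⊤) = k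
  rw [inf_top_eq, finrank_top, Module.finrank_fin_fun]

theorem md_le_m (W : Submodule ℂ (Fin k → ℂ)) (L : List (Rt × F)) : C.md W L ≤ C.m L :=
  Submodule.finrank_mono (inf_le_inf_right _ le_top)

theorem md_eq_of_mem_iff {W : Submodule ℂ (Fin k → ℂ)} {L L' : List (Rt × F)}
    (h : ∀ p, p ∈ L ↔ p ∈ L') : C.md W L = C.md W L' := by
  have e : C.es L = C.es L' := by
    ext x
    simp only [mem_es, h]
  unfold md
  rw [e]

theorem apply_mul (g h : Grp F) (x : Fin k → ℂ) : C.ρ (g * h) x = C.ρ g (C.ρ h x) := by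
  rw [map_mul]; rfl

theorem apply_inv_self (g : Grp F) (x : Fin k → ℂ) : C.ρ g⁻¹ (C.ρ g x) = x := by
  rw [← apply_mul, inv_mul_cancel, map_one]; rfl

theorem apply_self_inv (g : Grp F) (x : Fin k → ℂ) : C.ρ g (C.ρ g⁻¹ x) = x := by
  rw [← apply_mul, mul_inv_cancel, map_one]; rfl

theorem injective (g : Grp F) : Function.Injective (C.ρ g) :=
  Function.LeftInverse.injective (C.apply_inv_self g)

/-- transport of eigenspaces -/
theorem md_le_of_map {W W' : Submodule ℂ (Fin k → ℂ)} {L L' : List (Rt × F)} (g : Grp F)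
    (hW : ∀ x ∈ W, C.ρ g x ∈ W') (hL : ∀ x ∈ W, x ∈ C.es L → C.ρ g x ∈ C.es L') :
    C.md W L ≤ C.md W' L' := by
  refine LinearMap.finrank_le_finrank_of_injective
    (f := ((C.ρ g).restrict (p := W ⊓ C.es L) (q := W' ⊓ C.es L')
      fun x hx => ⟨hW x hx.1, hL x hx.1 hx.2⟩)) ?_
  intro x y h
  exact Subtype.ext (C.injective g (congrArg Subtype.val h))

/-- membership of a translated vector -/
theorem map_mem_es {L' : List (Rt × F)} {g : Grp F} {x : Fin k → ℂ}
    (h : ∀ p ∈ L', ∀ u, C.ρ (g⁻¹ * X p.1 u * g) x = C.ψ (p.2 * u) • x) : C.ρ g x ∈ C.es L' := by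
  rw [mem_es]
  intro p hp u
  have e := h p hp u
  rw [mul_assoc, C.apply_mul g⁻¹, C.apply_mul] at e
  have e2 := congrArg (C.ρ g) e
  rwa [apply_self_inv, map_smul] at e2

/-- a subspace invariant under a root group splits into its eigenspaces -/
theorem finrank_split (r : Rt) (U : Submodule ℂ (Fin k → ℂ))
    (hU : ∀ u, ∀ x ∈ U, C.ρ (X r u) x ∈ U) :
    Module.finrank ℂ U = ∑ a : F, Module.finrank ℂ ↥(C.ew r a ⊓ U) := by
  classical
  have hqc : (Fintype.card F : ℂ) ≠ 0 := Nat.cast_ne_zero.mpr Fintype.card_ne_zero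
  let R : F → Module.End ℂ U := fun u => (C.ρ (X r u)).restrict (hU u)
  have hRv : ∀ u (x : U), (R u x : Fin k → ℂ) = C.ρ (X r u) x := fun u x => rfl
  let P : F → Module.End ℂ U := fun a =>
    (Fintype.card F : ℂ)⁻¹ • ∑ u : F, C.ψ (-(a * u)) • R u
  have hP : ∀ a (x : U), (P a x : Fin k → ℂ) =
      (Fintype.card F : ℂ)⁻¹ • ∑ u : F, C.ψ (-(a * u)) • C.ρ (X r u) x := by
    intro a x
    simp [P, hRv]
  have hmem : ∀ a (x : U), (P a x : Fin k → ℂ) ∈ C.ew r a := by
    intro a x v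
    rw [hP, map_smul, map_sum, smul_comm (C.ψ (a * v))]
    refine congrArg _ ?_
    rw [Finset.smul_sum]
    refine Fintype.sum_equiv (Equiv.addLeft v) _ _ fun u => ?_
    rw [Equiv.coe_addLeft, map_smul, ← apply_mul, ← X_add, smul_smul, ← AddChar.map_add_eq_mul]
    congr 2
    ring
  have hfix : ∀ a (x : U), (x : Fin k → ℂ) ∈ C.ew r a → P a x = x := by
    intro a x hx
    apply Subtype.ext
    rw [hP]
    have : ∀ u : F, C.ψ (-(a * u)) • C.ρ (X r u) (x : Fin k → ℂ) = (x : Fin k → ℂ) := fun u => by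
      rw [hx u, smul_smul, ← AddChar.map_add_eq_mul, neg_add_cancel, AddChar.map_zero_eq_one, one_smul]
    rw [Finset.sum_congr rfl fun u _ => this u, Finset.sum_const, Finset.card_univ,
      ← Nat.cast_smul_eq_nsmul ℂ, inv_smul_smul₀ hqc]
  have hproj : ∀ a, LinearMap.IsProj (Submodule.comap U.subtype (C.ew r a)) (P a) := fun a =>
    ⟨fun x => hmem a x, fun x hx => hfix a x hx⟩
  have hsum : ∑ a : F, P a = LinearMap.id := by
    apply LinearMap.ext; intro x
    apply Subtype.ext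
    rw [LinearMap.sum_apply, Submodule.coe_sum, LinearMap.id_apply]
    simp_rw [hP, ← Finset.smul_sum]
    rw [Finset.sum_comm]
    have : ∀ u : F, (∑ a : F, C.ψ (-(a * u)) • C.ρ (X r u) (x : Fin k → ℂ)) =
        if u = 0 then (Fintype.card F : ℂ) • (x : Fin k → ℂ) else 0 := by
      intro u
      rw [← Finset.sum_smul]
      have e : ∑ a : F, C.ψ (-(a * u)) = if -u = 0 then (Fintype.card F : ℂ) else 0 := by
        have e0 := AddChar.sum_mulShift (-u) C.hψ
        simpa [mul_neg] using e0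
      rw [e]
      by_cases hu : u = 0
      · subst hu; rw [if_pos neg_zero, if_pos rfl, X_zero, map_one]; rfl
      · rw [if_neg (neg_ne_zero.mpr hu), if_neg hu, zero_smul]
    rw [Finset.sum_congr rfl fun u _ => this u, Finset.sum_ite_eq', if_pos (Finset.mem_univ _),
      inv_smul_smul₀ hqc]
  have htr : (Module.finrank ℂ U : ℂ) = ∑ a : F, (Module.finrank ℂ ↥(C.ew r a ⊓ U) : ℂ) := by
    rw [← LinearMap.trace_id ℂ U, ← hsum, map_sum]
    refine Finset.sum_congr rfl fun a _ => ?_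
    rw [trace_proj (hproj a)]
    congr 1
    refine LinearEquiv.finrank_eq ?_
    exact
      { toFun := fun x => ⟨x.1.1, x.2, x.1.2⟩
        invFun := fun x => ⟨⟨x.1, x.2.2⟩, x.2.1⟩
        map_add' := fun _ _ => rfl
        map_smul' := fun _ _ => rfl
        left_inv := fun _ => rfl
        right_inv := fun _ => rfl }
  exact_mod_cast htr

/-- decomposition along one more root group -/
theorem md_split (W : Submodule ℂ (Fin k → ℂ)) (r : Rt) (L : List (Rt × F))
    (hW : ∀ u, ∀ x ∈ W, C.ρ (X r u) x ∈ W) (hL : ∀ u, ∀ x ∈ W, x ∈ C.es L → C.ρ (X r u) x ∈ C.es L) :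
    C.md W L = ∑ a : F, C.md W ((r, a) :: L) := by
  rw [show C.md W L = Module.finrank ℂ ↥(W ⊓ C.es L) from rfl,
    C.finrank_split r (W ⊓ C.es L) fun u x hx => ⟨hW u x hx.1, hL u x hx.1 hx.2⟩]
  refine Finset.sum_congr rfl fun a _ => ?_
  show Module.finrank ℂ ↥(C.ew r a ⊓ (W ⊓ C.es L)) = Module.finrank ℂ ↥(W ⊓ (C.ew r a ⊓ C.es L))
  rw [inf_left_comm]

/-- invariance of a joint eigenspace under a root group -/
theorem es_invariant {r : Rt} {u : F} {L : List (Rt × F)} {x : Fin k → ℂ} (hx : x ∈ C.es L)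
    (h : ∀ p ∈ L, ∀ v, C.ρ ((X r u)⁻¹ * X p.1 v * X r u) x = C.ρ (X p.1 v) x) :
    C.ρ (X r u) x ∈ C.es L := by
  refine C.map_mem_es fun p hp v => ?_
  rw [h p hp v]
  exact C.mem_es.mp hx p hp v

/-- the torus element with prescribed values on the fundamental roots -/
def tor (u w : Fˣ) : ↥(R F).H := (Equiv.ofBijective _ ⟨psi2_injective, psi2_surjective⟩).symm (u, w)

theorem chi_tor (u w : Fˣ) (s : Rt) :
    χ (tor u w).1 s = ((ev2 u w (cfv s) : Fˣ) : F) := by
  rw [chi_eq]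
  have h : psi2 (tor u w) = (u, w) :=
    (Equiv.ofBijective _ ⟨psi2_injective, psi2_surjective⟩).apply_symm_apply (u, w)
  rw [h]

theorem torus_inv_conj {h : Grp F} (hh : h ∈ (R F).H) (s : Rt) (c : F) :
    h⁻¹ * X s c * h = X s ((χ h s)⁻¹ * c) := by
  have e := conj_X hh s ((χ h s)⁻¹ * c)
  rw [← mul_assoc, mul_inv_cancel₀ (chi_ne_zero hh s), one_mul] at e
  rw [← e]; group

/-- the image of an eigenvector under a torus element -/
theorem torus_map {h : Grp F} (hh : h ∈ (R F).H) {L : List (Rt × F)} {x : Fin k → ℂ}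
    (hx : x ∈ C.es (L.map fun p => (p.1, p.2 * χ h p.1))) : C.ρ h x ∈ C.es L := by
  refine C.map_mem_es fun p hp u => ?_
  rw [torus_inv_conj hh]
  have e := C.mem_es.mp hx _ (List.mem_map_of_mem hp) ((χ h p.1)⁻¹ * u)
  rw [show p.2 * χ h p.1 * ((χ h p.1)⁻¹ * u) = p.2 * u by
    rw [mul_assoc, ← mul_assoc (χ h p.1), mul_inv_cancel₀ (chi_ne_zero hh _), one_mul]] at e
  exact e

/-- torus scaling -/
theorem md_torus (W : Submodule ℂ (Fin k → ℂ)) {h : Grp F} (hh : h ∈ (R F).H)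
    (hW : ∀ x ∈ W, C.ρ h x ∈ W) (hW' : ∀ x ∈ W, C.ρ h⁻¹ x ∈ W) (L : List (Rt × F)) :
    C.md W (L.map fun p => (p.1, p.2 * χ h p.1)) = C.md W L := by
  apply le_antisymm
  · exact C.md_le_of_map h hW fun x _ hx => C.torus_map hh hx
  · refine C.md_le_of_map h⁻¹ hW' fun x _ hx => C.torus_map (inv_mem hh) ?_
    have e : (L.map fun p => (p.1, p.2 * χ h p.1)).map (fun p => (p.1, p.2 * χ h⁻¹ p.1)) = L := by
      rw [List.map_map]
      refine (List.map_congr_left fun p _ => ?_).trans (List.map_id _)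
      have h1 : χ (1 : Grp F) p.1 = 1 := by
        have e := chi_mul (one_mem (R F).H) (one_mem (R F).H) p.1
        rw [one_mul] at e
        exact mul_left_cancel₀ (chi_ne_zero (one_mem (R F).H) p.1) (by rw [mul_one]; exact e.symm)
      have : χ h p.1 * χ h⁻¹ p.1 = 1 := by
        rw [← chi_mul hh (inv_mem hh), mul_inv_cancel, h1]
      simp [mul_assoc, this]
    rw [e]; exact hx

/-- torus scaling on the whole space -/
theorem m_tor (u w : Fˣ) (L : List (Rt × F)) :
    C.m (L.map fun p => (p.1, p.2 * ((ev2 u w (cfv p.1) : Fˣ) : F))) = C.m L := by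
  have := C.md_torus ⊤ (tor u w).2 (fun _ _ => trivial) (fun _ _ => trivial) L
  simpa only [chi_tor] using this

theorem md_nw (W : Submodule ℂ (Fin k → ℂ)) (w : List Si)
    (hW : ∀ x ∈ W, C.ρ (nwG w) x ∈ W) (hW' : ∀ x ∈ W, C.ρ (nwG w)⁻¹ x ∈ W) :
    ∃ e : Rt → F, (∀ s, e s * e s = 1) ∧ ∀ L : List (Rt × F),
      C.md W L = C.md W (L.map fun p => (wact w p.1, e p.1 * p.2)) := by
  have key : ∀ s : Rt, ∃ e : F, e * e = 1 ∧ ∀ t, nwG w * X s t * (nwG w)⁻¹ = X (wact w s) (e * t) := by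
    intro s
    obtain ⟨e, he, h⟩ := (R F).nw_conj w s
    exact ⟨e, he, fun t => (h t).trans (congrArg (fun z => X z (e * t)) (actw_eq w s))⟩
  choose e he h using key
  refine ⟨e, he, fun L => le_antisymm (C.md_le_of_map (nwG w) hW fun x _ hx => C.map_mem_es fun p hp u => ?_)
    (C.md_le_of_map (nwG w)⁻¹ hW' fun x _ hx => C.map_mem_es fun p hp u => ?_)⟩
  · obtain ⟨q, hq, rfl⟩ := List.mem_map.1 hp
    have e1 : (nwG w)⁻¹ * X (wact w q.1) u * nwG w = X q.1 (e q.1 * u) := by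
      have h1 := h q.1 (e q.1 * u)
      rw [← mul_assoc (e q.1), he, one_mul] at h1
      rw [← h1]
      group
    rw [e1, C.mem_es.mp hx q hq]
    congr 2
    ring
  · rw [inv_inv, h p.1 u, C.mem_es.mp hx _ (List.mem_map_of_mem hp)]
    congr 2
    linear_combination (p.2 * u) * he p.1

end Ctx

end Cfsg.Agent.G2Deg54
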