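import Cfsg.Agent.Chev54.G2Deg.NotThree
import Cfsg.Agent.G2Orders80.Witness
import Cfsg.Agent.G2Orders80.Sylow

/-!
For `q ≡ 1 (mod 3)` a representation of degree `q³` cannot exist: its line of fixed vectors of the unipotent
group would have matrix coefficient with the wrong norm.
-/

set_option autoImplicit false

noncomputable section

namespace Cfsg.Agent.G2Deg54

open Cfsg.Lie Cfsg.Agent.ChevGroup Cfsg.Agent.ChevCore Cfsg.Agent.G2Orders80

universe u

variable {F : Type u} [Field F]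

theorem act_certs : (∀ s ∈ [(7 : Rt), 8, 9, 10, 11], wact [1] s ∈ [(7 : Rt), 8, 9, 10, 11]) ∧
    wact [1] (6 : Rt) = 5 ∧ wact [1] (7 : Rt) = 8 := by decide +kernel

theorem six_mem_pos {s : Rt} (hs : s ∈ posR) : TypeG2.model.S.pos s := pos_of_posR hs

theorem red_spec {I Φ : Type*} {S : RootIdx Φ I} :
    ∀ {w : List I}, S.Red w → ∀ v i u, w = v ++ i :: u → S.pos (S.actw u.reverse (S.simple i))
  | [], _, v, i, u, h => absurd h.symm (List.append_ne_nil_of_right_ne_nil v (List.cons_ne_nil i u))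
  | j :: w, hr, [], i, u, h => by
    simp only [List.nil_append, List.cons.injEq] at h
    obtain ⟨rfl, rfl⟩ := h
    exact hr.1
  | j :: w, hr, a :: v, i, u, h => by
    simp only [List.cons_append, List.cons.injEq] at h
    exact red_spec hr.2 v i u h.2

/-- reduced words have positive back roots -/
theorem red_cert : ∀ w ∈ wList, ∀ n : ℕ, n < w.length → ∀ i ∈ [w.getD n 0],
    (wact (w.drop (n + 1)).reverse (if i = 0 then 7 else 6)) ∈ posR := by decide +kernel

theorem simple_eq : ∀ i : Si, (TypeG2.model.S.simple i : Rt).val = (if i = 0 then (7 : Rt) else 6).val := by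
  decide +kernel

theorem red_wList {w : List Si} (hw : w ∈ wList) :
    ∀ (v : List Si) (i : Si) (u : List Si), w = v ++ i :: u → TypeG2.model.S.pos (TypeG2.model.S.actw u.reverse (TypeG2.model.S.simple i)) := by
  intro v i u he
  have h := red_cert w hw v.length (by rw [he]; simp) i (by
    rw [he, List.mem_singleton, List.getD_eq_getElem?_getD, List.getElem?_append_right le_rfl]; simp)
  rw [he, show (v ++ i :: u).drop (v.length + 1) = u by
    rw [← List.drop_drop, List.drop_left]; rfl] at h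
  have e : (TypeG2.model.S.simple i : Rt) = (if i = 0 then (7 : Rt) else 6) := Fin.ext (simple_eq i)
  rw [e, actw_eq]
  exact pos_of_posR h

/-- the words are distinguished by their images of the positive roots -/
theorem distinct_cert : ∀ w ∈ wList, ∀ v ∈ wList,
    (∀ r ∈ posR, ∃ s ∈ posR, wact w r = wact v s) → w = v := by decide +kernel

namespace Ctx

variable [Fintype F] {k : ℕ} (C : Ctx F k)

local instance : Fintype (Grp F) := Fintype.ofFinite _

/-- average over the unipotent group -/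
def avgU : (Fin k → ℂ) →ₗ[ℂ] (Fin k → ℂ) :=
  letI : Fintype ↥(R F).U := Fintype.ofFinite _
  (Nat.card ↥(R F).U : ℂ)⁻¹ • ∑ u : ↥(R F).U, C.ρ u.1

theorem avgU_apply [Fintype ↥(R F).U] (x : Fin k → ℂ) :
    C.avgU x = (Nat.card ↥(R F).U : ℂ)⁻¹ • ∑ u : ↥(R F).U, C.ρ u.1 x := by
  simp only [avgU, LinearMap.smul_apply, LinearMap.sum_apply]
  congr 1
  exact Finset.sum_congr (by ext; simp) fun _ _ => rfl

theorem avgU_left {g : Grp F} (hg : g ∈ (R F).U) (x : Fin k → ℂ) : C.ρ g (C.avgU x) = C.avgU x := by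
  letI : Fintype ↥(R F).U := Fintype.ofFinite _
  rw [avgU_apply, map_smul, map_sum]
  congr 1
  refine Fintype.sum_equiv (Equiv.mulLeft (⟨g, hg⟩ : ↥(R F).U)) _ _ fun u => ?_
  rw [← C.apply_mul]; rfl

theorem avgU_right {g : Grp F} (hg : g ∈ (R F).U) (x : Fin k → ℂ) : C.avgU (C.ρ g x) = C.avgU x := by
  letI : Fintype ↥(R F).U := Fintype.ofFinite _
  rw [avgU_apply, avgU_apply]
  congr 1
  refine Fintype.sum_equiv (Equiv.mulRight (⟨g, hg⟩ : ↥(R F).U)) _ _ fun u => ?_
  rw [← C.apply_mul]; rfl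

theorem avgU_torus {h : Grp F} (hh : h ∈ (R F).H) (x : Fin k → ℂ) :
    C.avgU (C.ρ h x) = C.ρ h (C.avgU x) := by
  letI : Fintype ↥(R F).U := Fintype.ofFinite _
  rw [avgU_apply, avgU_apply, map_smul, map_sum]
  congr 1
  let σ : ↥(R F).U → ↥(R F).U := fun u =>
    ⟨h⁻¹ * u.1 * (h⁻¹)⁻¹, G2Orders80.U_normal ((R F).H_le_B (inv_mem hh)) u.2⟩
  have hσ : Function.Bijective σ := Finite.injective_iff_bijective.mp fun u v e => by
    have := congrArg Subtype.val e
    simp only [σ] at this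
    exact Subtype.ext (mul_left_cancel (mul_right_cancel this))
  refine Fintype.sum_bijective σ hσ _ _ fun u => ?_
  rw [← C.apply_mul, ← C.apply_mul]
  congr 2
  simp only [σ]; group

theorem avgU_of_fixed {x : Fin k → ℂ} (hx : ∀ u ∈ (R F).U, C.ρ u x = x) : C.avgU x = x := by
  letI : Fintype ↥(R F).U := Fintype.ofFinite _
  rw [avgU_apply, Finset.sum_congr rfl fun u _ => hx u.1 u.2, Finset.sum_const, Finset.card_univ,
    ← Nat.cast_smul_eq_nsmul ℂ, ← Nat.card_eq_fintype_card,
    inv_smul_smul₀ (Nat.cast_ne_zero.mpr Nat.card_pos.ne')]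

theorem U_fixed {x : Fin k → ℂ} (hx : ∀ s ∈ posR, ∀ t, C.ρ (X s t) x = x) :
    ∀ u ∈ (R F).U, C.ρ u x = x := by
  intro u hu
  induction hu using Subgroup.closure_induction with
  | mem g hg =>
    obtain ⟨r, t, hr, rfl⟩ := hg
    exact hx r (mem_u1 r hr) t
  | one => rw [map_one]; rfl
  | mul a b _ _ iha ihb => rw [C.apply_mul, ihb, iha]
  | inv a _ iha => conv_lhs => rw [← iha, C.apply_inv_self]

/-- Schur's lemma for matrix coefficients -/
theorem coeff_norm (hρ : C.ρ.IsIrreducible) (v : Fin k → ℂ) (ξ : (Fin k → ℂ) →ₗ[ℂ] ℂ) (hv : ξ v = 1) :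
    (k : ℂ) * ∑ g : Grp F, ξ (C.ρ g v) * ξ (C.ρ g⁻¹ v) = (Nat.card (Grp F) : ℂ) := by
  let A : Module.End ℂ (Fin k → ℂ) := LinearMap.smulRight ξ v
  let T : Module.End ℂ (Fin k → ℂ) := ∑ g : Grp F, C.ρ g⁻¹ * A * C.ρ g
  have hT : ∀ h : Grp F, ∀ x, T (C.ρ h x) = C.ρ h (T x) := by
    intro h x
    simp only [T, LinearMap.sum_apply, map_sum]
    refine Fintype.sum_equiv (Equiv.mulRight h) _ _ fun g => ?_
    simp only [Equiv.coe_mulRight, Module.End.mul_apply]
    rw [← C.apply_mul g h, ← C.apply_mul, _root_.mul_inv_rev, mul_inv_cancel_left]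
  haveI : Nontrivial (Fin k → ℂ) := nontrivial_of_ne v 0 fun h => by simp [h] at hv
  obtain ⟨c, hc⟩ := Module.End.exists_eigenvalue T
  haveI : IsSimpleOrder (Subrepresentation C.ρ) := hρ
  let S : Subrepresentation C.ρ :=
    ⟨Module.End.eigenspace T c, fun g x hx => by
      rw [Module.End.mem_eigenspace_iff] at hx ⊢
      rw [hT, hx, map_smul]⟩
  have htop : Module.End.eigenspace T c = ⊤ := by
    rcases IsSimpleOrder.eq_bot_or_eq_top S with h | h
    · exact absurd (congrArg Subrepresentation.toSubmodule h) hc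
    · exact congrArg Subrepresentation.toSubmodule h
  have hTc : T = c • LinearMap.id := by
    refine LinearMap.ext fun x => ?_
    have : x ∈ Module.End.eigenspace T c := htop ▸ Submodule.mem_top
    exact Module.End.mem_eigenspace_iff.mp this
  have htr : LinearMap.trace ℂ _ T = (Nat.card (Grp F) : ℂ) := by
    have e : ∀ g : Grp F, LinearMap.trace ℂ _ (C.ρ g⁻¹ * A * C.ρ g) = 1 := by
      intro g
      rw [LinearMap.trace_mul_comm, ← mul_assoc, ← map_mul, mul_inv_cancel, map_one, one_mul,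
        LinearMap.trace_smulRight, hv]
    simp only [T, map_sum]
    rw [Finset.sum_congr rfl fun g _ => e g, Finset.sum_const, Finset.card_univ, Nat.card_eq_fintype_card,
      nsmul_eq_mul, mul_one]
  have hsum : ∑ g : Grp F, ξ (C.ρ g v) * ξ (C.ρ g⁻¹ v) = c := by
    have e := congrArg (fun Z : Module.End ℂ (Fin k → ℂ) => ξ (Z v)) hTc
    simp only [T, A, LinearMap.sum_apply, map_sum, Module.End.mul_apply, LinearMap.smulRight_apply,
      map_smul, LinearMap.smul_apply, LinearMap.id_apply, hv, smul_eq_mul, mul_one] at e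
    exact e
  rw [hsum]
  rw [hTc, map_smul, LinearMap.trace_id, Module.finrank_fin_fun, smul_eq_mul] at htr
  rw [mul_comm]; exact htr

theorem hecke_false (hS : C.Small) (h3 : (3 : F) ≠ 0) (hρ : C.ρ.IsIrreducible) (hk : 2 ≤ k)
    (hq : 5 ≤ Fintype.card F) (h00 : C.D 0 0 0 0 = 1) : False := by
  classical
  -- the line
  set L0 : List (Rt × F) := [((10 : Rt), (0 : F)), (9, 0), (8, 0), (6, 0), (11, 0)] with hL0
  have hdim : Module.finrank ℂ (C.es L0) = 1 := by
    have : C.m L0 = 1 := h00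
    show Module.finrank ℂ ↥(C.es L0) = 1
    rw [← this]
    show _ = Module.finrank ℂ ↥((⊤ : Submodule ℂ (Fin k → ℂ)) ⊓ _)
    rw [top_inf_eq]
  obtain ⟨⟨v, hv⟩, hv0, hspan⟩ := finrank_eq_one_iff'.mp hdim
  have hv0' : v ≠ 0 := fun h => hv0 (Subtype.ext h)
  have hline : ∀ x ∈ C.es L0, ∃ c : ℂ, x = c • v := fun x hx => by
    obtain ⟨c, hc⟩ := hspan ⟨x, hx⟩
    exact ⟨c, (congrArg Subtype.val hc).symm⟩
  have hfixQ : ∀ s ∈ [(6 : Rt), 8, 9, 10, 11], ∀ t, C.ρ (X s t) v = v := by
    intro s hs t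
    refine C.act_of_zero hv ?_ t
    simp only [List.mem_cons, List.not_mem_nil, or_false, L0] at hs ⊢
    rcases hs with rfl | rfl | rfl | rfl | rfl <;> tauto
  have hz : ∀ t u : F, C.ψ (0 * u) • v = v := fun _ u => by
    rw [zero_mul, AddChar.map_zero_eq_one, one_smul]
  -- torus eigenvector
  have htor : ∀ h : Grp F, h ∈ (R F).H → ∃ c : ℂ, C.ρ h v = c • v := fun h hh => by
    refine hline _ (C.torus_map hh ?_)
    simpa [L0] using hv
  -- the simple short root groups fix the line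
  have hlinear : ∀ r : Rt, (∀ t, ∃ c : ℂ, C.ρ (X r t) v = c • v) →
      (∃ u : Fˣ, χ (tor u 1).1 r ≠ 1) → ∀ t, C.ρ (X r t) v = v := by
    intro r hr hu t
    choose φ hφ using hr
    obtain ⟨u, hu⟩ := hu
    obtain ⟨μ, hμ⟩ := htor _ (tor u 1).2
    have hμ0 : μ ≠ 0 := fun h => hv0' (C.injective (tor u 1).1 (by rw [hμ, h, zero_smul, map_zero]))
    have hinv : ∀ s, φ (χ (tor u 1).1 r * s) = φ s := by
      intro s
      have e := congrArg (fun g => C.ρ g v) (mul_inv_eq_iff_eq_mul.mp (conj_X (tor u 1).2 r s))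
      simp only [C.apply_mul, hμ, hφ, map_smul, smul_smul] at e
      have e2 := smul_left_injective ℂ hv0' e
      exact mul_left_cancel₀ hμ0 (by linear_combination (-1 : ℂ) * e2)
    have hmul : ∀ a b, φ (a + b) = φ a * φ b := by
      intro a b
      refine smul_left_injective ℂ hv0' ?_
      show φ (a + b) • v = (φ a * φ b) • v
      rw [← hφ, X_add, C.apply_mul, hφ, map_smul, hφ, smul_smul, mul_comm]
    set z := χ (tor u 1).1 r
    have hz1 : z - 1 ≠ 0 := sub_ne_zero.mpr hu
    have key : φ t = 1 := by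
      have hne : φ (t / (z - 1)) ≠ 0 := fun h => hv0' (C.injective (X r (t / (z - 1))) (by
        rw [hφ, h, zero_smul, map_zero]))
      have e := hinv (t / (z - 1))
      rw [show z * (t / (z - 1)) = t + t / (z - 1) by field_simp; ring, hmul] at e
      exact (mul_eq_right₀ hne).mp e
    rw [hφ, key, one_smul]
  obtain ⟨g, hg1, -, -⟩ := exists_unit (F := F) hq
  have h7 : ∀ t, C.ρ (X 7 t) v = v := by
    refine hlinear 7 (fun t => hline _ ?_) ⟨g, ?_⟩
    · have := C.D_trans_map t 0 0 0 0 v hv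
      simpa [L0] using this
    · rw [chi_tor, ev_seven]; simpa using hg1
  have h4 : ∀ t, C.ρ (X 4 t) v = v := by
    refine hlinear 4 (fun t => hline _ (C.map_mem_es fun p hp u => ?_)) ⟨g, ?_⟩
    · simp only [List.mem_cons, List.not_mem_nil, or_false, L0] at hp
      rcases hp with rfl | rfl | rfl | rfl | rfl
      · simp only [conj_4_10, C.apply_mul, hfixQ 6 (by simp), hfixQ 8 (by simp), hfixQ 9 (by simp),
          hfixQ 10 (by simp), hfixQ 11 (by simp), hz t u]
      · simp only [conj_4_9, C.apply_mul, hfixQ 6 (by simp), hfixQ 8 (by simp), hfixQ 9 (by simp),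
          hfixQ 11 (by simp), hz t u]
      · simp only [conj_4_8, C.apply_mul, hfixQ 6 (by simp), hfixQ 8 (by simp), hz t u]
      · rw [conj_comm (show commB (4 : Rt) (6 : Rt) = true by decide +kernel), hfixQ 6 (by simp), hz t u]
      · rw [conj_comm (show commB (4 : Rt) (11 : Rt) = true by decide +kernel), hfixQ 11 (by simp), hz t u]
    · rw [chi_tor, show cfv 4 = ((-1 : ℤ), (0 : ℤ)) by decide]; simpa [ev2] using hg1
  have hpos : ∀ s ∈ posR, ∀ t, C.ρ (X s t) v = v := by
    intro s hs t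
    simp only [posR, List.mem_cons, List.not_mem_nil, or_false] at hs
    rcases hs with rfl | rfl | rfl | rfl | rfl | rfl
    exacts [hfixQ 6 (by simp) t, h7 t, hfixQ 8 (by simp) t, hfixQ 9 (by simp) t, hfixQ 10 (by simp) t,
      hfixQ 11 (by simp) t]
  have hUfix : ∀ u ∈ (R F).U, C.ρ u v = v := C.U_fixed hpos
  have havg : ∀ x, C.avgU x ∈ C.es L0 := by
    intro x
    rw [mem_es]
    intro p hp u
    simp only [List.mem_cons, List.not_mem_nil, or_false, L0] at hp
    rcases hp with rfl | rfl | rfl | rfl | rfl <;>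
      rw [zero_mul, AddChar.map_zero_eq_one, one_smul] <;>
      exact C.avgU_left ((R F).x_mem_U (pos_of_posR (by simp [posR])) u) x
  obtain ⟨f, hf⟩ : ∃ f : (Fin k → ℂ) →ₗ[ℂ] ℂ, f v = 1 := by
    obtain ⟨i, hi⟩ := Function.ne_iff.mp hv0'
    exact ⟨(v i)⁻¹ • LinearMap.proj i, by simpa using inv_mul_cancel₀ hi⟩
  set ξ : (Fin k → ℂ) →ₗ[ℂ] ℂ := f.comp C.avgU with hξdef
  have hξeq : ∀ x, C.avgU x = ξ x • v := by
    intro x
    obtain ⟨c, hc⟩ := hline _ (havg x)
    simp [ξ, hc, hf]
  have hξv : ξ v = 1 := by simp [ξ, C.avgU_of_fixed hUfix, hf]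
  have hξU : ∀ u ∈ (R F).U, ∀ x, ξ (C.ρ u x) = ξ x := fun u hu x => by simp [ξ, C.avgU_right hu]
  choose μ hμ using htor
  have hξH : ∀ h : Grp F, ∀ hh : h ∈ (R F).H, ∀ x, ξ (C.ρ h x) = μ h hh * ξ x := by
    intro h hh x
    show f (C.avgU (C.ρ h x)) = _
    rw [C.avgU_torus hh, hξeq, map_smul, hμ h hh, smul_smul, map_smul, hf, smul_eq_mul, mul_one, mul_comm]
  set n := (nwG [1] : Grp F) with hn
  have hnr7 : ∀ a : F, C.ρ ((R F).nr (7 : Rt) a) v = v := fun a => by
    show C.ρ (X 7 a * X (TypeG2.model.S.neg (7 : Rt)) (-a⁻¹) * X 7 a) v = v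
    rw [C.apply_mul, h7, C.apply_mul]
    refine (congrArg (C.ρ (X 7 a)) ?_).trans (h7 a)
    exact (congrArg (fun s => C.ρ (X s (-a⁻¹)) v) (negR_neg 7)).trans (h4 _)
  have hn0 : C.ρ (nwG [0] : Grp F) v = v := by
    have e : (nwG [0] : Grp F) = (R F).nr (7 : Rt) 1 :=
      ((R F).nw_cons (0 : Si) []).trans ((mul_one _).trans
        (congrArg (fun s => (R F).nr s (1 : F)) (Fin.ext (simple_eq 0))))
    rw [e, hnr7]
  -- the image of the line under the long reflection
  have hnfix : ∀ s ∈ [(7 : Rt), 8, 9, 10, 11], ∀ t, C.ρ (X s t) (C.ρ n v) = C.ρ n v := by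
    intro s hs t
    obtain ⟨e, he⟩ := (R F).nw_inv_conj_x ([1] : List Si) s t
    have key : n⁻¹ * X s t * n = X (wact [1] s) (e * t) :=
      he.trans (congrArg (fun z => X z (e * t)) (actw_eq ([1] : List Si).reverse s))
    have e1 : X s t * n = n * X (wact [1] s) (e * t) := by rw [← key]; group
    rw [← C.apply_mul, e1, C.apply_mul]
    congr 1
    refine hpos _ ?_ _
    have := act_certs.1 s hs
    simp only [posR, List.mem_cons, List.not_mem_nil, or_false] at this ⊢
    tauto
  set c := ξ (C.ρ n v) with hc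
  set q := Fintype.card F with hqdef
  have hsum6 : ∑ t : F, C.ρ (X 6 t) (C.ρ n v) = ((q : ℂ) * c) • v := by
    set w0 := ∑ t : F, C.ρ (X 6 t) (C.ρ n v) with hw0
    have hw6 : ∀ s, C.ρ (X 6 s) w0 = w0 := by
      intro s
      rw [hw0, map_sum]
      refine Fintype.sum_equiv (Equiv.addLeft s) _ _ fun t => ?_
      rw [← C.apply_mul, ← X_add]; rfl
    have hw : ∀ s ∈ [(7 : Rt), 8, 9, 10, 11], ∀ u, C.ρ (X s u) w0 = w0 := by
      intro s hs u
      rw [hw0, map_sum]
      refine Finset.sum_congr rfl fun t _ => ?_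
      have e : X s u * X 6 t = X 6 t * ((X 6 t)⁻¹ * X s u * X 6 t) := by group
      rw [← C.apply_mul, e, C.apply_mul]
      congr 1
      simp only [List.mem_cons, List.not_mem_nil, or_false] at hs
      rcases hs with rfl | rfl | rfl | rfl | rfl
      · simp only [conj_6_7, C.apply_mul, hnfix 7 (by simp), hnfix 8 (by simp), hnfix 9 (by simp),
          hnfix 10 (by simp), hnfix 11 (by simp)]
      · rw [conj_comm (show commB (6 : Rt) (8 : Rt) = true by decide +kernel), hnfix 8 (by simp)]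
      · rw [conj_comm (show commB (6 : Rt) (9 : Rt) = true by decide +kernel), hnfix 9 (by simp)]
      · simp only [conj_6_10, C.apply_mul, hnfix 10 (by simp), hnfix 11 (by simp)]
      · rw [conj_comm (show commB (6 : Rt) (11 : Rt) = true by decide +kernel), hnfix 11 (by simp)]
    have hwU : ∀ u ∈ (R F).U, C.ρ u w0 = w0 := by
      refine C.U_fixed fun s hs u => ?_
      by_cases h6 : s = 6
      · subst h6; exact hw6 u
      · refine hw s ?_ u
        simp only [posR, List.mem_cons, List.not_mem_nil, or_false] at hs ⊢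
        tauto
    rw [← C.avgU_of_fixed hwU, hξeq]
    congr 1
    rw [hw0, map_sum, Finset.sum_congr rfl fun t _ => hξU _ ((R F).x_mem_U (pos_of_posR (by decide)) t) _,
      Finset.sum_const, Finset.card_univ, nsmul_eq_mul]
  have hn2 : n * n ∈ (R F).H := by
    have := (R F).n_sq_mem_H (1 : Si)
    have e : n = (R F).n (1 : Si) := mul_one _
    rw [e]; exact this
  -- rank one computation
  obtain ⟨e6, he6, hconj6⟩ := (R F).nw_conj ([1] : List Si) 6
  have he60 : e6 ≠ 0 := fun h => by simp [h] at he6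
  have hnX : ∀ t : F, n * X 6 t = X 5 (e6 * t) * n := by
    intro t
    have h := hconj6 t
    rw [mul_inv_eq_iff_eq_mul] at h
    exact h.trans (congrArg (fun z => X z (e6 * t) * n) ((actw_eq ([1] : List Si) 6).trans act_certs.2.1))
  have hX5 : ∀ s : F, s ≠ 0 →
      (X 5 s : Grp F) = X 6 s⁻¹ * ((R F).hr 6 (-s⁻¹) * n) * X 6 s⁻¹ := by
    intro s hs
    have h : (R F).nr 6 (-s⁻¹) = X 6 (-s⁻¹) * X 5 s * X 6 (-s⁻¹) := by
      show X 6 (-s⁻¹) * X (TypeG2.model.S.neg 6) (-(-s⁻¹)⁻¹) * X 6 (-s⁻¹) = _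
      rw [show (TypeG2.model.S.neg 6 : Rt) = 5 from negR_neg 6, inv_neg, inv_inv, neg_neg]
      all_goals rfl
    have h2 : (R F).nr 6 (-s⁻¹) = (R F).hr 6 (-s⁻¹) * n :=
      ((R F).nr_eq 6 _).trans (congrArg _ (mul_one _).symm)
    rw [← h2, h, X_neg]
    group
  have hxi5 : ∀ (s : F) (hs : s ≠ 0), C.ρ (X 5 s) v =
      C.ρ (X 6 s⁻¹) (C.ρ ((R F).hr 6 (-s⁻¹)) (C.ρ n v)) := by
    intro s hs
    rw [hX5 s hs, C.apply_mul, C.apply_mul, C.apply_mul, hfixQ 6 (by simp)]
  have hA : ξ (C.ρ n (∑ t : F, C.ρ (X 6 t) (C.ρ n v))) = (q : ℂ) * c * c := by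
    rw [hsum6, map_smul, map_smul, smul_eq_mul]
  have hterm : ∀ t : F, t ≠ 0 → C.ρ n (C.ρ (X 6 t) (C.ρ n v)) =
      μ _ hn2 • C.ρ (X 6 (e6 * t)⁻¹) (C.ρ ((R F).hr 6 (-(e6 * t)⁻¹)) (C.ρ n v)) := by
    intro t ht
    rw [← C.apply_mul n, hnX, C.apply_mul, ← C.apply_mul n n, hμ _ hn2, map_smul,
      hxi5 _ (mul_ne_zero he60 ht)]
  have hA' : ξ (C.ρ n (∑ t : F, C.ρ (X 6 t) (C.ρ n v))) = μ _ hn2 +
      ∑ t ∈ (Finset.univ.erase (0 : F)).attach, μ _ hn2 *
        (μ _ ((R F).hr_mem_H (r := (6 : Rt)) (c := -(e6 * t.1)⁻¹) (neg_ne_zero.mpr (inv_ne_zero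
          (mul_ne_zero he60 (Finset.ne_of_mem_erase t.2))))) * c) := by
    rw [map_sum, map_sum, ← Finset.add_sum_erase _ _ (Finset.mem_univ (0 : F)), X_zero, map_one,
      Module.End.one_apply, ← C.apply_mul n n, hμ _ hn2, map_smul, hξv, smul_eq_mul, mul_one,
      ← Finset.sum_attach (Finset.univ.erase (0 : F))]
    congr 1
    refine Finset.sum_congr rfl fun t _ => ?_
    have ht := mul_ne_zero he60 (Finset.ne_of_mem_erase t.2)
    rw [hterm t.1 (Finset.ne_of_mem_erase t.2), map_smul, hξU _ ((R F).x_mem_U (pos_of_posR (by decide)) _),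
      hξH ((R F).hr 6 (-(e6 * t.1)⁻¹)) ((R F).hr_mem_H (r := 6) (neg_ne_zero.mpr (inv_ne_zero ht))), smul_eq_mul]
    rw [hc]
    all_goals rfl
  have hμn0 : μ _ hn2 ≠ 0 := fun h => hv0' (C.injective (n * n) (by rw [hμ _ hn2, h, zero_smul, map_zero]))
  have hc0 : c ≠ 0 := by
    intro h
    apply hμn0
    rw [hA, h] at hA'
    simp only [mul_zero, Finset.sum_const_zero, add_zero] at hA'
    exact hA'.symm
  -- the torus acts trivially on the line
  have hμmul : ∀ (a b : Grp F) (ha : a ∈ (R F).H) (hb : b ∈ (R F).H),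
      μ (a * b) (mul_mem ha hb) = μ a ha * μ b hb := by
    intro a b ha hb
    refine smul_left_injective ℂ hv0' ?_
    show μ (a * b) _ • v = (μ a ha * μ b hb) • v
    rw [← hμ, C.apply_mul, hμ b hb, map_smul, hμ a ha, smul_smul, mul_comm]
  let ν : Fˣ → Fˣ → ℂ := fun u w => μ (tor u w).1 (tor u w).2
  have hνmul : ∀ u w u' w' : Fˣ, ν (u * u') (w * w') = ν u w * ν u' w' := by
    intro u w u' w'
    have e : tor (u * u') (w * w') = tor u w * tor u' w' := by
      apply psi2_injective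
      rw [map_mul]
      have he : ∀ a b : Fˣ, psi2 (tor a b) = (a, b) := fun a b =>
        (Equiv.ofBijective _ ⟨psi2_injective, psi2_surjective⟩).apply_symm_apply (a, b)
      rw [he, he, he]; rfl
    simp only [ν]
    rw [← hμmul]
    congr 1
    exact congrArg Subtype.val e
  have hpsi : ∀ (h : Grp F) (hh : h ∈ (R F).H), μ h hh = ν (psi2 ⟨h, hh⟩).1 (psi2 ⟨h, hh⟩).2 := by
    intro h hh
    simp only [ν]
    congr 1
    exact (congrArg Subtype.val
      ((Equiv.ofBijective _ ⟨psi2_injective, psi2_surjective⟩).symm_apply_apply (⟨h, hh⟩ : ↥(R F).H))).symm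
  have hswap : ∀ u w : Fˣ, ν u w = ν (u * w) w⁻¹ := by
    intro u w
    have hh' : n⁻¹ * (tor u w).1 * n ∈ (R F).H := (R F).nw_inv_conj_mem_H ([1] : List Si) (tor u w).2
    have e1 : μ (tor u w).1 (tor u w).2 * c = μ _ hh' * c := by
      rw [← hξH _ (tor u w).2, hc, ← smul_eq_mul, ← map_smul, ← map_smul, ← hμ _ hh', ← C.apply_mul,
        ← C.apply_mul]
      congr 3
      group
    have hval : ∀ s : Rt, χ (n * (n⁻¹ * (tor u w).1 * n) * n⁻¹) (wact [1] s) = χ (n⁻¹ * (tor u w).1 * n) s :=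
      fun s => chi_conj [1] hh' s
    rw [show n * (n⁻¹ * (tor u w).1 * n) * n⁻¹ = (tor u w).1 by group] at hval
    have e2 := mul_right_cancel₀ hc0 e1
    rw [hpsi _ hh'] at e2
    refine e2.trans ?_
    have a1 : (psi2 ⟨_, hh'⟩).1 = u * w := by
      apply Units.ext
      have h := hval 7
      rw [act_certs.2.2, chi_tor, ev_eight] at h
      rw [h]
      exact ((chi_eq ⟨_, hh'⟩ 7).trans (congrArg Units.val (ev_seven _ _))).symm
    have a2 : (psi2 ⟨_, hh'⟩).2 = w⁻¹ := by
      apply Units.ext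
      have h := hval 6
      rw [act_certs.2.1, chi_tor, show cfv 5 = ((0 : ℤ), (-1 : ℤ)) by decide] at h
      rw [show (ev2 u w ((0 : ℤ), (-1 : ℤ))) = w⁻¹ by simp [ev2]] at h
      rw [h]
      exact ((chi_eq ⟨_, hh'⟩ 6).trans (congrArg Units.val (ev_six _ _))).symm
    rw [a1, a2]
  have hcor : ∀ z : Fˣ, ν (z ^ 2) (z⁻¹ ^ 3) = 1 := by
    intro z
    have hh := (R F).hr_mem_H (r := (7 : Rt)) (c := (z : F)) z.ne_zero
    have hfix : C.ρ ((R F).hr (7 : Rt) (z : F)) v = v := by
      show C.ρ ((R F).nr (7 : Rt) (z : F) * (R F).nr (7 : Rt) (-1)) v = v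
      rw [C.apply_mul, hnr7, hnr7]
    have e : μ _ hh = 1 := smul_left_injective ℂ hv0' (show μ _ hh • v = (1 : ℂ) • v by
      rw [← hμ, hfix, one_smul])
    rw [hpsi] at e
    refine Eq.trans ?_ e
    congr 1
    · apply Units.ext
      have := (chi_hr (F := F) 7 7 (c := (z : F)) z.ne_zero).trans
        (congrArg (fun e : ℤ => (z : F) ^ e) pairing_cert.1)
      refine Eq.trans ?_ ((chi_eq ⟨_, hh⟩ 7).trans (congrArg Units.val (ev_seven _ _)))
      refine Eq.trans ?_ this.symm
      simp [zpow_ofNat]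
    · apply Units.ext
      have := (chi_hr (F := F) 7 6 (c := (z : F)) z.ne_zero).trans
        (congrArg (fun e : ℤ => (z : F) ^ e) pairing_cert.2.1)
      refine Eq.trans ?_ ((chi_eq ⟨_, hh⟩ 6).trans (congrArg Units.val (ev_six _ _)))
      refine Eq.trans ?_ this.symm
      simp [zpow_neg, zpow_ofNat, inv_pow]
  have hν1 : ∀ u w : Fˣ, ν u w = 1 := by
    have hne : ∀ u w, ν u w ≠ 0 := fun u w h => hv0' (C.injective (tor u w).1 (by
      rw [hμ _ (tor u w).2, show μ _ (tor u w).2 = ν u w from rfl, h, zero_smul, map_zero]))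
    have hone : ν 1 1 = 1 := by
      have := hνmul 1 1 1 1
      rw [mul_one] at this
      exact (mul_eq_left₀ (hne 1 1)).mp this.symm
    have hb : ∀ z : Fˣ, ν 1 z = 1 := by
      intro z
      -- `α(w) = β(w)²` and `α(z²) β(z)⁻³ = 1`
      have h1 : ∀ w : Fˣ, ν w 1 = ν 1 w * ν 1 w := by
        intro w
        have e : ν 1 w = ν w w⁻¹ := by
          refine (hswap 1 w).trans ?_
          rw [one_mul]
        have e2 := hνmul w w⁻¹ 1 w
        rw [mul_one, inv_mul_cancel, ← e] at e2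
        exact e2
      have e3 := hcor z
      have e4 : ν (z ^ 2) (z⁻¹ ^ 3) = ν (z ^ 2) 1 * ν 1 (z⁻¹ ^ 3) := by rw [← hνmul, mul_one, one_mul]
      rw [e4, h1, ← hνmul, mul_one, ← hνmul, mul_one] at e3
      rwa [show z ^ 2 * z ^ 2 * z⁻¹ ^ 3 = z by
        rw [← pow_add, inv_pow, pow_succ z 3, mul_assoc, mul_comm z, ← mul_assoc, mul_inv_cancel, one_mul]] at e3
    intro u w
    have e : ν u w = ν u 1 * ν 1 w := by rw [← hνmul, mul_one, one_mul]
    rw [e, hb w, mul_one]
    have e2 : ν u 1 = ν 1 u * ν 1 u := by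
      have e3 : ν 1 u = ν u u⁻¹ := by
        refine (hswap 1 u).trans ?_
        rw [one_mul]
      have e4 := hνmul u u⁻¹ 1 u
      rw [mul_one, inv_mul_cancel, ← e3] at e4
      exact e4
    rw [e2, hb u, one_mul]
  have hHfix : ∀ h : Grp F, h ∈ (R F).H → C.ρ h v = v := fun h hh => by
    rw [hμ h hh, hpsi h hh, hν1, one_smul]
  have hμ1 : ∀ h hh, μ h hh = 1 := fun h hh => by rw [hpsi h hh, hν1]
  -- the quadratic equation
  have hquad : (q : ℂ) * c * c = 1 + ((q : ℂ) - 1) * c := by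
    rw [← hA, hA']
    simp only [hμ1, one_mul]
    rw [Finset.sum_const, Finset.card_attach, Finset.card_erase_of_mem (Finset.mem_univ _),
      Finset.card_univ, nsmul_eq_mul, Nat.cast_sub (by omega : 1 ≤ q), Nat.cast_one]
  have hB : ∀ b ∈ (R F).B, C.ρ b v = v ∧ ∀ x, ξ (C.ρ b x) = ξ x := by
    intro b hb
    obtain ⟨u, hu, h, hh, rfl⟩ := (R F).mem_B_iff.1 hb
    refine ⟨by rw [C.apply_mul, hHfix h hh, hUfix u hu], fun x => ?_⟩
    rw [C.apply_mul, hξU u hu, hξH h hh, hμ1, one_mul]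
  have hroot : (c - 1) * ((q : ℂ) * c + 1) = 0 := by linear_combination hquad
  rcases mul_eq_zero.mp hroot with h1 | h1
  · -- the trivial root
    have hc1 : c = 1 := sub_eq_zero.mp h1
    rw [hc1, mul_one] at hsum6
    set T := v + ∑ t : F, C.ρ (X 6 t) (C.ρ n v) with hTdef
    have hT : T = ((q : ℂ) + 1) • v := by rw [hTdef, hsum6, add_smul, one_smul, add_comm]
    have hnT : C.ρ n T = T := by
      rw [hTdef, map_add, map_sum, ← Finset.add_sum_erase _ _ (Finset.mem_univ (0 : F)),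
        ← Finset.add_sum_erase Finset.univ _ (Finset.mem_univ (0 : F))]
      simp only [X_zero, map_one, Module.End.one_apply]
      rw [← C.apply_mul n n, hHfix _ hn2, add_left_comm]
      congr 2
      refine Finset.sum_bij (fun t _ => (e6 * t)⁻¹) (fun t ht => ?_) (fun a ha b hb h => ?_)
        (fun s hs => ?_) (fun t ht => ?_)
      · exact Finset.mem_erase.mpr ⟨inv_ne_zero (mul_ne_zero he60 (Finset.ne_of_mem_erase ht)),
          Finset.mem_univ _⟩
      · exact mul_left_cancel₀ he60 (inv_injective h)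
      · have hs0 := Finset.ne_of_mem_erase hs
        exact ⟨e6⁻¹ * s⁻¹, Finset.mem_erase.mpr ⟨mul_ne_zero (inv_ne_zero he60) (inv_ne_zero hs0),
          Finset.mem_univ _⟩, by rw [← mul_assoc, mul_inv_cancel₀ he60, one_mul, inv_inv]⟩
      · rw [hterm t (Finset.ne_of_mem_erase ht), hμ1, one_smul]
        congr 1
        have hh := (R F).hr_mem_H (r := (6 : Rt)) (c := -(e6 * t)⁻¹) (neg_ne_zero.mpr (inv_ne_zero
          (mul_ne_zero he60 (Finset.ne_of_mem_erase ht))))
        have hh' : n⁻¹ * (R F).hr 6 (-(e6 * t)⁻¹) * n ∈ (R F).H :=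
          (R F).nw_inv_conj_mem_H ([1] : List Si) hh
        rw [← C.apply_mul, show (R F).hr 6 (-(e6 * t)⁻¹) * n = n * (n⁻¹ * (R F).hr 6 (-(e6 * t)⁻¹) * n) by
          group, C.apply_mul, hHfix _ hh']
    have hq1 : (q : ℂ) + 1 ≠ 0 := by exact_mod_cast Nat.succ_ne_zero q
    rw [hT, map_smul] at hnT
    have hnv : C.ρ n v = v := smul_right_injective _ hq1 hnT
    -- the whole group fixes `v`
    have hall : ∀ g : Grp F, C.ρ g v = v := by
      intro g
      obtain ⟨b, hb, w, -, b', hb', rfl⟩ := exists_bruhat g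
      have hw : C.ρ (nwG w) v = v := by
        induction w with
        | nil => rw [show (nwG ([] : List Si) : Grp F) = 1 from rfl, map_one]; rfl
        | cons i w ih =>
          rw [show (nwG (i :: w) : Grp F) = nwG [i] * nwG w from nwG_append [i] w, C.apply_mul, ih]
          obtain rfl | rfl : i = 0 ∨ i = 1 := by revert i; decide
          · exact hn0
          · exact hnv
      rw [C.apply_mul, (hB b' hb').1, C.apply_mul, hw, (hB b hb).1]
    haveI : IsSimpleOrder (Subrepresentation C.ρ) := hρ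
    let S : Subrepresentation C.ρ := ⟨ℂ ∙ v, fun g x hx => by
      obtain ⟨z, rfl⟩ := Submodule.mem_span_singleton.mp hx
      exact Submodule.mem_span_singleton.mpr ⟨z, by rw [map_smul, hall]⟩⟩
    rcases IsSimpleOrder.eq_bot_or_eq_top S with h | h
    · have e : (ℂ ∙ v) = (⊥ : Submodule ℂ (Fin k → ℂ)) := congrArg Subrepresentation.toSubmodule h
      exact hv0' (Submodule.span_singleton_eq_bot.mp e)
    · have h2 : Module.finrank ℂ (ℂ ∙ v) = k := by
        have := congrArg Subrepresentation.toSubmodule h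
        rw [show (ℂ ∙ v) = (⊤ : Submodule ℂ (Fin k → ℂ)) from this, finrank_top, Module.finrank_fin_fun]
      rw [finrank_span_singleton hv0'] at h2
      omega
  · -- the other root
    have hqc : (q : ℂ) * c = -1 := eq_neg_of_add_eq_zero_left h1
    have hq0 : (q : ℂ) ≠ 0 := Nat.cast_ne_zero.mpr (by omega)
    let f0 : Grp F → ℂ := fun g => ξ (C.ρ g v)
    have hstep0 : ∀ w : List Si, f0 (nwG (w ++ [0])) = f0 (nwG w) := by
      intro w
      show ξ (C.ρ (nwG (w ++ [0])) v) = _
      rw [nwG_append, C.apply_mul, hn0]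
    have hstep1 : ∀ w : List Si, wact w 6 ∈ posR → f0 (nwG (w ++ [1])) = c * f0 (nwG w) := by
      intro w hw
      obtain ⟨e, he, hconj⟩ := (R F).nw_conj w 6
      have hterm' : ∀ t, ξ (C.ρ (nwG w) (C.ρ (X 6 t) (C.ρ n v))) = f0 (nwG (w ++ [1])) := by
        intro t
        have h := hconj t
        rw [mul_inv_eq_iff_eq_mul] at h
        have h' : (nwG w : Grp F) * X 6 t = X (wact w 6) (e * t) * nwG w :=
          h.trans (congrArg (fun z => X z (e * t) * nwG w) (actw_eq w 6))
        rw [← C.apply_mul, h', C.apply_mul, hξU _ ((R F).x_mem_U (pos_of_posR hw) _)]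
        show _ = ξ (C.ρ (nwG (w ++ [1])) v)
        rw [nwG_append, C.apply_mul]
      have := congrArg (fun x => ξ (C.ρ (nwG w) x)) hsum6
      simp only [map_sum, hterm', map_smul, smul_eq_mul] at this
      rw [Finset.sum_const, Finset.card_univ, nsmul_eq_mul, mul_assoc] at this
      exact mul_left_cancel₀ hq0 this
    have hnil : f0 (nwG []) = 1 := by
      show ξ (C.ρ (nwG []) v) = 1
      rw [show (nwG ([] : List Si) : Grp F) = 1 from rfl, map_one]
      exact hξv
    -- values on the twelve words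
    have hval : ∀ w ∈ [0, 1, 0, 1, 0, 1] :: wList, f0 (nwG w) = c ^ (w.count 1) := by
      have p0 : wact ([] : List Si) (6 : Rt) ∈ posR := by decide +kernel
      have p1 : wact ([0] : List Si) (6 : Rt) ∈ posR := by decide +kernel
      have p2 : wact ([1, 0] : List Si) (6 : Rt) ∈ posR := by decide +kernel
      have p3 : wact ([0, 1, 0] : List Si) (6 : Rt) ∈ posR := by decide +kernel
      have p4 : wact ([1, 0, 1, 0] : List Si) (6 : Rt) ∈ posR := by decide +kernel
      have p5 : wact ([0, 1, 0, 1, 0] : List Si) (6 : Rt) ∈ posR := by decide +kernel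
      have a : f0 (nwG [0]) = 1 := (hstep0 []).trans hnil
      have b : f0 (nwG [1]) = c := by rw [show ([1] : List Si) = [] ++ [1] from rfl, hstep1 _ p0, hnil, mul_one]
      have ab : f0 (nwG [0, 1]) = c := by
        rw [show ([0, 1] : List Si) = [0] ++ [1] from rfl, hstep1 _ p1, a, mul_one]
      have ba : f0 (nwG [1, 0]) = c := (hstep0 [1]).trans b
      have aba : f0 (nwG [0, 1, 0]) = c := (hstep0 [0, 1]).trans ab
      have bab : f0 (nwG [1, 0, 1]) = c ^ 2 := by
        rw [show ([1, 0, 1] : List Si) = [1, 0] ++ [1] from rfl, hstep1 _ p2, ba]; ring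
      have abab : f0 (nwG [0, 1, 0, 1]) = c ^ 2 := by
        rw [show ([0, 1, 0, 1] : List Si) = [0, 1, 0] ++ [1] from rfl, hstep1 _ p3, aba]; ring
      have baba : f0 (nwG [1, 0, 1, 0]) = c ^ 2 := (hstep0 [1, 0, 1]).trans bab
      have ababa : f0 (nwG [0, 1, 0, 1, 0]) = c ^ 2 := (hstep0 [0, 1, 0, 1]).trans abab
      have babab : f0 (nwG [1, 0, 1, 0, 1]) = c ^ 3 := by
        rw [show ([1, 0, 1, 0, 1] : List Si) = [1, 0, 1, 0] ++ [1] from rfl, hstep1 _ p4, baba]; ring
      have w0v : f0 (nwG [1, 0, 1, 0, 1, 0]) = c ^ 3 := (hstep0 [1, 0, 1, 0, 1]).trans babab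
      have w0' : f0 (nwG [0, 1, 0, 1, 0, 1]) = c ^ 3 := by
        rw [show ([0, 1, 0, 1, 0, 1] : List Si) = [0, 1, 0, 1, 0] ++ [1] from rfl, hstep1 _ p5, ababa]; ring
      intro w hw
      simp only [wList, List.mem_cons, List.not_mem_nil, or_false] at hw
      rcases hw with rfl | rfl | rfl | rfl | rfl | rfl | rfl | rfl | rfl | rfl | rfl | rfl | rfl
      · exact w0'
      · exact hnil
      · exact a.trans (pow_zero c).symm
      · exact b.trans (pow_one c).symm
      · exact ab.trans (pow_one c).symm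
      · exact ba.trans (pow_one c).symm
      · exact aba.trans (pow_one c).symm
      · exact bab
      · exact abab
      · exact baba
      · exact ababa
      · exact babab
      · exact w0v
    -- invariance
    have hbi : ∀ b ∈ (R F).B, ∀ g, ∀ b' ∈ (R F).B, f0 (b * g * b') = f0 g := by
      intro b hb g b' hb'
      show ξ (C.ρ (b * g * b') v) = ξ (C.ρ g v)
      rw [C.apply_mul, (hB b' hb').1, C.apply_mul, (hB b hb).2]
    let Fn : Grp F → ℂ := fun g => f0 g * f0 g⁻¹
    have hFb : ∀ b ∈ (R F).B, ∀ g, ∀ b' ∈ (R F).B, Fn (b * g * b') = Fn g := by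
      intro b hb g b' hb'
      show f0 (b * g * b') * f0 (b * g * b')⁻¹ = f0 g * f0 g⁻¹
      rw [hbi b hb g b' hb', show (b * g * b')⁻¹ = b'⁻¹ * g⁻¹ * b⁻¹ by group,
        hbi _ (inv_mem hb') g⁻¹ _ (inv_mem hb)]
    have hFw : ∀ w ∈ wList, Fn (nwG w) = c ^ (2 * w.count 1) := by
      intro w hw
      obtain ⟨z, hz, e⟩ := nw_inv_eq (R F) w
      have e2 : f0 (nwG w : Grp F)⁻¹ = f0 (nwG w.reverse) := by
        have := hbi z ((R F).H_le_B hz) (nwG w.reverse) 1 (one_mem _)
        rw [mul_one] at this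
        rw [show ((nwG w : Grp F))⁻¹ = z * nwG w.reverse from e, this]
      show f0 (nwG w) * f0 (nwG w : Grp F)⁻¹ = _
      have hrev : w.reverse ∈ [0, 1, 0, 1, 0, 1] :: wList :=
        (show ∀ w ∈ wList, w.reverse ∈ [0, 1, 0, 1, 0, 1] :: wList by decide +kernel) w hw
      rw [e2, hval w (List.mem_cons_of_mem _ hw), hval _ hrev, List.count_reverse]
      ring
    -- the coset decomposition
    haveI : Fintype (Grp F ⧸ (R F).B) := Fintype.ofFinite _
    haveI : Fintype ↥(R F).B := Fintype.ofFinite _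
    have hsum : ∑ g : Grp F, Fn g = (Nat.card ↥(R F).B : ℂ) * ∑ x : Grp F ⧸ (R F).B, Fn x.out := by
      rw [Finset.mul_sum]
      let π : Grp F → Grp F ⧸ (R F).B := fun g => (g : Grp F ⧸ (R F).B)
      rw [← Finset.sum_fiberwise Finset.univ π]
      refine Finset.sum_congr rfl fun x _ => ?_
      have hfib : ∀ g ∈ Finset.univ.filter (fun g => π g = x), Fn g = Fn x.out := by
        intro g hg
        have hgx := (Finset.mem_filter.mp hg).2
        have hm : x.out⁻¹ * g ∈ (R F).B := by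
          rw [← QuotientGroup.eq]
          show (QuotientGroup.mk x.out : Grp F ⧸ (R F).B) = π g
          rw [QuotientGroup.out_eq', hgx]
        have := hFb 1 (one_mem _) x.out _ hm
        rw [one_mul, mul_inv_cancel_left] at this
        exact this
      rw [Finset.sum_congr rfl hfib, Finset.sum_const, nsmul_eq_mul]
      congr 2
      rw [Nat.card_eq_fintype_card, ← Finset.card_univ]
      refine Finset.card_bij (fun g _ => (⟨x.out⁻¹ * g, ?_⟩ : ↥(R F).B)) (fun _ _ => Finset.mem_univ _)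
        (fun a _ b _ h => mul_left_cancel (congrArg Subtype.val h))
        (fun b _ => ⟨x.out * b.1, Finset.mem_filter.mpr ⟨Finset.mem_univ _, ?_⟩,
          Subtype.ext (inv_mul_cancel_left _ _)⟩)
      · rename_i hg
        rw [← QuotientGroup.eq]
        show (QuotientGroup.mk x.out : Grp F ⧸ (R F).B) = π g
        rw [QuotientGroup.out_eq', (Finset.mem_filter.mp hg).2]
      · show (QuotientGroup.mk (x.out * b.1) : Grp F ⧸ (R F).B) = x
        rw [QuotientGroup.mk_mul_of_mem _ b.2, QuotientGroup.out_eq']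
    let cl : List Si → Finset (Grp F ⧸ (R F).B) := fun w =>
      Finset.univ.filter (fun x => x ∈ cell (R F).B (R F).B (nwG w : Grp F))
    have hclF : ∀ w ∈ wList, ∀ x ∈ cl w, Fn x.out = c ^ (2 * w.count 1) := by
      intro w hw x hx
      obtain ⟨b, hb, hbx⟩ := mem_cell.mp (Finset.mem_filter.mp hx).2
      have hm : (b * nwG w)⁻¹ * x.out ∈ (R F).B := by
        rw [← QuotientGroup.eq]
        rw [hbx, QuotientGroup.out_eq']
      have := hFb b hb (nwG w) _ hm
      rw [mul_inv_cancel_left] at this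
      rw [this, hFw w hw]
    have hT : ∀ r t, TypeG2.model.S.pos r →
        (TypeG2.model.shapeR (relsOfCommGood uGoodG2.toCommGood F)).Pres TypeG2.model.S.pos ((R F).x r t) :=
      fun r t hr => TypeG2.model.pres_posList _ TypeG2.pos_span r t hr
    have hclcard : ∀ w ∈ wList, (cl w).card = q ^ w.length := by
      intro w hw
      have e := (TypeG2.model.shapeR (relsOfCommGood uGoodG2.toCommGood F)).card_cell_word hT w (red_wList hw)
      rw [Nat.card_eq_fintype_card (α := F)] at e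
      refine Eq.trans ?_ e
      rw [Nat.card_eq_fintype_card, ← Set.toFinset_card]
      congr 1
      ext x
      simp only [cl, Finset.mem_filter, Finset.mem_univ, true_and, Set.mem_toFinset]
      rfl
    have hcover : (wList.toFinset).biUnion cl = Finset.univ := by
      refine Finset.eq_univ_of_forall fun x => ?_
      obtain ⟨b, hb, w, -, b', hb', e⟩ := exists_bruhat x.out
      obtain ⟨v', hv', hwv⟩ := exists_wList w
      refine Finset.mem_biUnion.mpr ⟨v', List.mem_toFinset.mpr hv', Finset.mem_filter.mpr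
        ⟨Finset.mem_univ _, mem_cell.mpr ⟨b * ((nwG w : Grp F) * (nwG v')⁻¹),
          mul_mem hb ((R F).H_le_B (nw_div_mem_H hwv)), ?_⟩⟩⟩
      rw [show b * ((nwG w : Grp F) * (nwG v')⁻¹) * nwG v' = b * nwG w by group]
      refine Eq.trans ?_ (QuotientGroup.out_eq' x)
      rw [e]
      exact (QuotientGroup.mk_mul_of_mem _ hb').symm
    have hdisj : (wList.toFinset : Set (List Si)).PairwiseDisjoint cl := by
      intro w hw w' hw' hne
      show Disjoint (cl w) (cl w')
      rw [Finset.disjoint_left]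
      intro x hx hx'
      have hw1 := List.mem_toFinset.mp (Finset.mem_coe.mp hw)
      have hw2 := List.mem_toFinset.mp (Finset.mem_coe.mp hw')
      have h1 := (Finset.mem_filter.mp hx).2
      have h2 := (Finset.mem_filter.mp hx').2
      have he : cell (R F).B (R F).B (nwG w : Grp F) = cell (R F).B (R F).B (nwG w') :=
        (MulAction.orbit_eq_iff.2 h1).symm.trans (MulAction.orbit_eq_iff.2 h2)
      have hP : ∀ p ∈ (R F).B,
          (TypeG2.model.shapeR (relsOfCommGood uGoodG2.toCommGood F)).Pres TypeG2.model.S.pos p := fun p hp =>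
        (TypeG2.model.shapeR (relsOfCommGood uGoodG2.toCommGood F)).pres_par (J := []) hT
          (fun j hj => absurd hj List.not_mem_nil) ((R F).B_le_par _ hp)
      refine hne (distinct_cert w hw1 w' hw2 fun r hr => ?_)
      obtain ⟨s, hs, e⟩ :=
        (TypeG2.model.shapeR (relsOfCommGood uGoodG2.toCommGood F)).image_of_cell_eq hP he r (pos_of_posR hr)
      refine ⟨s, ?_, (actw_eq w r).symm.trans (e.trans (actw_eq w' s))⟩
      have h6 : ∀ s : Rt, 6 ≤ s.val → s ∈ posR := by decide +kernel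
      exact h6 s ((pos_iff s).1 hs)
    have hX : ∑ x : Grp F ⧸ (R F).B, Fn x.out =
        ∑ w ∈ wList.toFinset, (q : ℂ) ^ w.length * c ^ (2 * w.count 1) := by
      rw [← hcover, Finset.sum_biUnion hdisj]
      refine Finset.sum_congr rfl fun w hw => ?_
      have hw1 := List.mem_toFinset.mp hw
      rw [Finset.sum_congr rfl (hclF w hw1), Finset.sum_const, hclcard w hw1, nsmul_eq_mul, Nat.cast_pow]
    have hnd : wList.Nodup := by decide +kernel
    have hS12 : (q : ℂ) * ∑ w ∈ wList.toFinset, (q : ℂ) ^ w.length * c ^ (2 * w.count 1) =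
        3 * ((q : ℂ) + 1) ^ 2 := by
      rw [List.sum_toFinset _ hnd]
      simp only [wList, List.map_cons, List.map_nil, List.sum_cons, List.sum_nil]
      simp [List.count_cons]
      have hc' : c = -1 / (q : ℂ) := by rw [eq_div_iff hq0, mul_comm, hqc]
      rw [hc']
      field_simp
      ring
    have hnorm := C.coeff_norm hρ v ξ hξv
    have hG : (Nat.card (Grp F) : ℂ) = (q : ℂ) ^ 6 * ((q : ℂ) ^ 2 - 1) * ((q : ℂ) ^ 6 - 1) := by
      rw [card_group, ← hqdef]
      push_cast [Nat.one_le_pow 2 q (by omega), Nat.one_le_pow 6 q (by omega)]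
      rfl
    have hB' : (Nat.card ↥(R F).B : ℂ) = (q : ℂ) ^ 6 * ((q : ℂ) - 1) ^ 2 := by
      rw [(TypeG2.model.shapeR (relsOfCommGood uGoodG2.toCommGood F)).card_B, Nat.cast_mul]
      change (Nat.card ↥(R F).U : ℂ) * (Nat.card ↥(R F).H : ℂ) = _
      rw [card_U, card_H, ← hqdef]
      push_cast [Nat.one_le_iff_ne_zero.mpr (show q ≠ 0 by omega)]
      rfl
    have hdeg : (k : ℂ) = (q : ℂ) ^ 3 := by
      have := hS.deg
      rw [h00, ← hqdef] at this
      rw [show k = q ^ 3 by omega, Nat.cast_pow]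
    change (k : ℂ) * ∑ g : Grp F, Fn g = _ at hnorm
    rw [hsum, hX, hG, hB', hdeg] at hnorm
    have key : (q : ℂ) ^ 7 * ((((q : ℂ) ^ 2 - 1) ^ 2) * ((q : ℂ) ^ 2 - 1) ^ 2) = 0 := by
      linear_combination (q : ℂ) ^ 9 * ((q : ℂ) - 1) ^ 2 * hS12 - (q : ℂ) * hnorm
    have hq2 : (q : ℂ) ^ 2 - 1 ≠ 0 := by
      rw [sub_ne_zero]
      norm_cast
      nlinarith
    simp [hq0, hq2] at key

end Ctx

end Cfsg.Agent.G2Deg54
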