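import Cfsg.Agent.Chev54.G2Deg.Common
import Mathlib.RingTheory.IntegralDomain
import Mathlib.GroupTheory.SpecificGroups.Cyclic

/-!
Degree bound away from characteristic three, and the shape of a counterexample.
-/

set_option autoImplicit false

noncomputable section

namespace Cfsg.Agent.G2Deg54

open Cfsg.Lie Cfsg.Agent.ChevGroup Cfsg.Agent.ChevCore Cfsg.Agent.G2Orders80

universe u

namespace Ctx

variable {F : Type u} [Field F] [Fintype F] {k : ℕ} (C : Ctx F k)

theorem exists_unit (hq : 5 ≤ Fintype.card F) :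
    ∃ g : Fˣ, g ≠ 1 ∧ g ^ 2 ≠ 1 ∧ g ^ 3 ≠ 1 := by
  classical
  obtain ⟨g, hg⟩ := IsCyclic.exists_ofOrder_eq_natCard (α := Fˣ)
  have hcard : Nat.card Fˣ = Fintype.card F - 1 := by rw [Nat.card_units, Nat.card_eq_fintype_card]
  refine ⟨g, fun h => ?_, fun h => ?_, fun h => ?_⟩
  · rw [h, orderOf_one] at hg; omega
  · have := Nat.le_of_dvd (by norm_num) (orderOf_dvd_of_pow_eq_one h); omega
  · have := Nat.le_of_dvd (by norm_num) (orderOf_dvd_of_pow_eq_one h); omega

/-- the basic multiplicity -/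
def mu : ℕ := C.m [(8, 0), (6, 0), (11, 1)]

theorem shift_ten (s a b l : F) (x : Fin k → ℂ) (hx : x ∈ C.es [(8, b), (6, a), (11, l)]) :
    C.ρ (X 10 s) x ∈ C.es [(8, b), (6, a + l * s), (11, l)] := by
  have h8 := C.act_of_mem hx (s := (8 : Rt)) (a := b) (by simp)
  have h6 := C.act_of_mem hx (s := (6 : Rt)) (a := a) (by simp)
  have h11 := C.act_of_mem hx (s := (11 : Rt)) (a := l) (by simp)
  refine C.map_mem_es fun p hp u => ?_
  simp only [List.mem_cons, List.not_mem_nil, or_false] at hp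
  rcases hp with rfl | rfl | rfl
  · rw [conj_comm (show commB (10 : Rt) (8 : Rt) = true by decide +kernel), h8]
  · simp only [conj_10_6, C.apply_mul, h11, map_smul, h6, smul_smul, ← AddChar.map_add_eq_mul]
    congr 2; ring
  · rw [conj_comm (show commB (10 : Rt) (11 : Rt) = true by decide +kernel), h11]

theorem shift_nine (s a b l : F) (x : Fin k → ℂ) (hx : x ∈ C.es [(8, b), (6, a), (11, l)]) :
    C.ρ (X 9 s) x ∈ C.es [(8, b + 3 * l * s), (6, a), (11, l)] := by
  have h8 := C.act_of_mem hx (s := (8 : Rt)) (a := b) (by simp)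
  have h6 := C.act_of_mem hx (s := (6 : Rt)) (a := a) (by simp)
  have h11 := C.act_of_mem hx (s := (11 : Rt)) (a := l) (by simp)
  refine C.map_mem_es fun p hp u => ?_
  simp only [List.mem_cons, List.not_mem_nil, or_false] at hp
  rcases hp with rfl | rfl | rfl
  · simp only [conj_9_8, C.apply_mul, h11, map_smul, h8, smul_smul, ← AddChar.map_add_eq_mul]
    congr 2; ring
  · rw [conj_comm (show commB (9 : Rt) (6 : Rt) = true by decide +kernel), h6]
  · rw [conj_comm (show commB (9 : Rt) (11 : Rt) = true by decide +kernel), h11]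

theorem m_triple (h3 : (3 : F) ≠ 0) {l : F} (hl : l ≠ 0) (a b : F) :
    C.m [(8, b), (6, a), (11, l)] = C.mu := by
  have s10 : ∀ a' b' s, C.m [(8, b'), (6, a'), (11, l)] = C.m [(8, b'), (6, a' + l * s), (11, l)] :=
    fun a' b' s => C.m_eq_of_pair (X 10 s) (X 10 (-s)) (C.shift_ten s a' b' l) fun x hx => by
      have := C.shift_ten (-s) _ _ l x hx
      rwa [show a' + l * s + l * -s = a' by ring] at this
  have s9 : ∀ a' b' s, C.m [(8, b'), (6, a'), (11, l)] = C.m [(8, b' + 3 * l * s), (6, a'), (11, l)] :=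
    fun a' b' s => C.m_eq_of_pair (X 9 s) (X 9 (-s)) (C.shift_nine s a' b' l) fun x hx => by
      have := C.shift_nine (-s) _ _ l x hx
      rwa [show b' + 3 * l * s + 3 * l * -s = b' by ring] at this
  have e1 := s10 a b (-a / l)
  rw [show a + l * (-a / l) = 0 by field_simp; ring] at e1
  have e2 := s9 0 b (-b / (3 * l))
  rw [show b + 3 * l * (-b / (3 * l)) = 0 by field_simp; ring] at e2
  rw [e1, e2]
  have e3 := C.m_tor (Units.mk0 l hl) (Units.mk0 l hl)⁻¹ [(8, 0), (6, 0), (11, 1)]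
  simp only [List.map_cons, List.map_nil, ev_six, ev_eight, ev_eleven, zero_mul, one_mul] at e3
  rw [mu, ← e3]
  congr
  simp only [Units.val_mul, Units.val_pow_eq_pow_val, Units.val_inv_eq_inv_val, Units.val_mk0]
  field_simp

theorem m_six_eleven (h3 : (3 : F) ≠ 0) {l : F} (hl : l ≠ 0) (a : F) :
    C.m [(6, a), (11, l)] = Fintype.card F * C.mu := by
  rw [C.m_split_comm 8 _ (by
    simp only [List.mem_cons, List.not_mem_nil, or_false]
    rintro p (rfl | rfl)
    · show commB (8 : Rt) (6 : Rt) = true; decide +kernel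
    · show commB (8 : Rt) (11 : Rt) = true; decide +kernel)]
  rw [Finset.sum_congr rfl fun b _ => C.m_triple h3 hl a b, Finset.sum_const, Finset.card_univ,
    smul_eq_mul]

theorem m_eleven (h3 : (3 : F) ≠ 0) {l : F} (hl : l ≠ 0) :
    C.m [(11, l)] = Fintype.card F * (Fintype.card F * C.mu) := by
  rw [C.m_split_comm 6 _ (by
    simp only [List.mem_cons, List.not_mem_nil, or_false]
    rintro p rfl
    show commB (6 : Rt) (11 : Rt) = true; decide +kernel)]
  rw [Finset.sum_congr rfl fun a _ => C.m_six_eleven h3 hl a, Finset.sum_const, Finset.card_univ,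
    smul_eq_mul]

/-- multiplicity of the characters with trivial value on the centre and given first coordinate -/
def S (a : F) : ℕ := ∑ v : F × F × F, C.D a v.1 v.2.1 v.2.2

theorem S_eq (a : F) : C.S a = C.m [(6, a), (11, 0)] := by
  rw [C.m_six_eleven_zero_eq, S, Fintype.sum_prod_type]
  refine Finset.sum_congr rfl fun b _ => ?_
  rw [Fintype.sum_prod_type]

theorem S_ne_zero (h3 : (3 : F) ≠ 0) {a : F} (ha : a ≠ 0) : C.S a = Fintype.card F * C.mu := by
  classical
  obtain ⟨e, he, h⟩ := C.md_nw ⊤ [0, 1, 0] (fun _ _ => trivial) (fun _ _ => trivial)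
  have hw : wact [0, 1, 0] (6 : Rt) = 11 := by decide +kernel
  have hne : e 6 * a ≠ 0 := mul_ne_zero (fun h0 => by
    have := he 6; rw [h0, mul_zero] at this; exact zero_ne_one this) ha
  have h6 : C.m [(6, a)] = Fintype.card F * (Fintype.card F * C.mu) := by
    have := h [(6, a)]
    simp only [List.map_cons, List.map_nil, hw] at this
    exact this.trans (C.m_eleven h3 hne)
  have hsplit : C.m [(6, a)] = ∑ l : F, C.m [(6, a), (11, l)] := by
    rw [C.m_split_comm 11 _ (by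
      simp only [List.mem_cons, List.not_mem_nil, or_false]
      rintro p rfl
      show commB (11 : Rt) (6 : Rt) = true; decide +kernel)]
    refine Finset.sum_congr rfl fun l _ => C.md_eq_of_mem_iff fun p => ?_
    simp only [List.mem_cons, List.not_mem_nil, or_false]; tauto
  rw [← Finset.add_sum_erase _ _ (Finset.mem_univ (0 : F)),
    Finset.sum_congr rfl fun l hl => C.m_six_eleven h3 (Finset.ne_of_mem_erase hl) a,
    Finset.sum_const, Finset.card_erase_of_mem (Finset.mem_univ _), Finset.card_univ, smul_eq_mul,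
    ← C.S_eq, h6] at hsplit
  obtain ⟨n, hn⟩ : ∃ n, Fintype.card F = n + 1 := ⟨Fintype.card F - 1, by
    have := Fintype.card_pos (α := F); omega⟩
  rw [hn] at hsplit ⊢
  rw [Nat.add_sub_cancel] at hsplit
  rw [Nat.succ_mul n ((n + 1) * C.mu)] at hsplit
  omega

theorem k_eq (h3 : (3 : F) ≠ 0) :
    k = (Fintype.card F - 1) * (Fintype.card F * (Fintype.card F * C.mu)) +
      ((Fintype.card F - 1) * (Fintype.card F * C.mu) + C.S 0) := by
  classical
  have h := C.k_eq_sum 11
  rw [← Finset.add_sum_erase _ _ (Finset.mem_univ (0 : F)),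
    Finset.sum_congr rfl fun l hl => C.m_eleven h3 (Finset.ne_of_mem_erase hl),
    Finset.sum_const, Finset.card_erase_of_mem (Finset.mem_univ _), Finset.card_univ, smul_eq_mul] at h
  have h0 : C.m [(11, 0)] = ∑ a : F, C.S a := by
    rw [C.m_splitQ 6 [(11, 0)] (by decide) (by simp [QR]) (by simp)]
    exact Finset.sum_congr rfl fun a _ => (C.S_eq a).symm
  rw [h0, ← Finset.add_sum_erase _ _ (Finset.mem_univ (0 : F)),
    Finset.sum_congr rfl fun a ha => C.S_ne_zero h3 (Finset.ne_of_mem_erase ha),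
    Finset.sum_const, Finset.card_erase_of_mem (Finset.mem_univ _), Finset.card_univ, smul_eq_mul] at h
  omega

theorem mu_pos (h3 : (3 : F) ≠ 0) (hρ : C.ρ.IsIrreducible) (hk : 2 ≤ k) (hq : 2 < Fintype.card F) :
    1 ≤ C.mu := by
  obtain ⟨l, hl, hpos⟩ := C.exists_root_char hρ hk hq 11
  rw [C.m_eleven h3 hl] at hpos
  rcases Nat.eq_zero_or_pos C.mu with h | h
  · simp [h] at hpos
  · exact h

/-- some character of the radical outside `a ≠ 0` occurs -/
theorem exists_zero_supp (h3 : (3 : F) ≠ 0) (hq : 5 ≤ Fintype.card F) (hmu : C.mu = 1) :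
    ∃ b c d : F, ¬ (b = 0 ∧ c = 0 ∧ d = 0) ∧ C.D 0 b c d ≠ 0 := by
  classical
  by_contra hcon
  push Not at hcon
  obtain ⟨e₁, e₂, e₃, e₄, h1, h2, h3', h4, hswap⟩ := C.D_swap
  obtain ⟨a, ha, v0, hv0⟩ : ∃ a : F, a ≠ 0 ∧ ∃ v : F × F × F, C.D a v.1 v.2.1 v.2.2 ≠ 0 := by
    obtain ⟨v, -, hv⟩ := Finset.exists_ne_zero_of_sum_ne_zero
      (show C.S 1 ≠ 0 by rw [C.S_ne_zero h3 one_ne_zero, hmu]; omega)
    exact ⟨1, one_ne_zero, v, hv⟩
  have hd0 : ∀ a b c d : F, a ≠ 0 → C.D a b c d ≠ 0 → d ≠ 0 := by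
    intro a b c d ha hD hd
    rw [hswap a b c d, hd, mul_zero] at hD
    exact hD (hcon _ _ _ (fun _ _ h => mul_ne_zero h4 ha h))
  have ha0 : ∀ a b c d : F, C.D a b c d ≠ 0 → d ≠ 0 → a ≠ 0 := by
    intro a b c d hD hd h
    subst h
    exact hD (hcon _ _ _ (fun _ _ h => hd h))
  obtain ⟨b, c, d⟩ := v0
  have hd := hd0 _ _ _ _ ha hv0
  set t₀ := c / (3 * d) with ht0
  set a' := a + t₀ * b + t₀ ^ 2 * c - t₀ ^ 3 * d with ha'
  set b' := b + 2 * t₀ * c - 3 * t₀ ^ 2 * d with hb'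
  have hD' : C.D a' b' 0 d ≠ 0 := by
    have := C.D_trans t₀ a b c d
    rw [show c - 3 * t₀ * d = 0 by rw [ht0]; field_simp; ring] at this
    rw [this]; exact hv0
  have ha'0 : a' ≠ 0 := ha0 _ _ _ _ hD' hd
  obtain ⟨g, -, -, hg3⟩ := exists_unit (F := F) hq
  let U : Bool → Fˣ := fun i => if i then g else 1
  let Φ : F × Fˣ × Bool → F × F × F × F := fun p =>
    (a' * (p.2.1 : F) + p.1 * (b' * ((U p.2.2 * p.2.1 : Fˣ) : F)) -
        p.1 ^ 3 * (d * ((U p.2.2 ^ 3 * p.2.1 : Fˣ) : F)),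
      b' * ((U p.2.2 * p.2.1 : Fˣ) : F) - 3 * p.1 ^ 2 * (d * ((U p.2.2 ^ 3 * p.2.1 : Fˣ) : F)),
      -(3 * p.1 * (d * ((U p.2.2 ^ 3 * p.2.1 : Fˣ) : F))), d * ((U p.2.2 ^ 3 * p.2.1 : Fˣ) : F))
  have hΦD : ∀ p, C.D (Φ p).1 (Φ p).2.1 (Φ p).2.2.1 (Φ p).2.2.2 = C.D a' b' 0 d := by
    intro p
    rw [← C.D_tor (U p.2.2) p.2.1 a' b' 0 d, zero_mul]
    conv_rhs => rw [← C.D_trans p.1]
    simp only [Φ]
    congr 1 <;> ring
  have hΦinj : Function.Injective Φ := by
    rintro ⟨t, w, i⟩ ⟨t', w', i'⟩ h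
    simp only [Φ, Prod.mk.injEq] at h
    obtain ⟨hA, hB, hC, hDd⟩ := h
    have hz : ((U i ^ 3 * w : Fˣ) : F) = ((U i' ^ 3 * w' : Fˣ) : F) := mul_left_cancel₀ hd hDd
    rw [← hz] at hA hB hC
    have hz0 : d * ((U i ^ 3 * w : Fˣ) : F) ≠ 0 := mul_ne_zero hd (Units.ne_zero _)
    have ht : t = t' := by
      have := neg_inj.mp hC
      exact mul_left_cancel₀ h3 (mul_right_cancel₀ hz0 this)
    subst ht
    have hB' : b' * ((U i * w : Fˣ) : F) = b' * ((U i' * w' : Fˣ) : F) := by linear_combination hB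
    rw [← hB'] at hA
    have hw : w = w' := Units.ext (mul_left_cancel₀ ha'0 (by linear_combination hA))
    subst hw
    have hU : U i ^ 3 = U i' ^ 3 := mul_right_cancel (Units.ext hz)
    have : i = i' := by
      cases i <;> cases i'
      · rfl
      · exact absurd (by simpa [U] using hU.symm) hg3
      · exact absurd (by simpa [U] using hU) hg3
      · rfl
    rw [this]
  have hcount : Fintype.card (F × Fˣ × Bool) ≤
      ∑ x ∈ (Finset.univ : Finset (F × F × F × F)).filter (fun x => x.1 ≠ 0),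
        C.D x.1 x.2.1 x.2.2.1 x.2.2.2 := by
    calc Fintype.card (F × Fˣ × Bool) = ∑ x ∈ Finset.univ.image Φ, 1 := by
          rw [Finset.sum_const, Finset.card_image_of_injective _ hΦinj, Finset.card_univ, smul_eq_mul,
            mul_one]
      _ ≤ ∑ x ∈ Finset.univ.image Φ, C.D x.1 x.2.1 x.2.2.1 x.2.2.2 := by
          refine Finset.sum_le_sum fun x hx => ?_
          obtain ⟨p, -, rfl⟩ := Finset.mem_image.1 hx
          rw [hΦD]; exact Nat.one_le_iff_ne_zero.mpr hD'
      _ ≤ _ := by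
          refine Finset.sum_le_sum_of_subset fun x hx => ?_
          obtain ⟨p, -, rfl⟩ := Finset.mem_image.1 hx
          refine Finset.mem_filter.2 ⟨Finset.mem_univ _, ?_⟩
          refine ha0 _ _ _ _ (by rw [hΦD]; exact hD') ?_
          exact mul_ne_zero hd (Units.ne_zero _)
  have htot : (∑ x ∈ (Finset.univ : Finset (F × F × F × F)).filter (fun x => x.1 ≠ 0),
      C.D x.1 x.2.1 x.2.2.1 x.2.2.2) = (Fintype.card F - 1) * Fintype.card F := by
    rw [Finset.sum_filter, Fintype.sum_prod_type]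
    have : ∀ a : F, (∑ v : F × F × F, if a ≠ 0 then C.D a v.1 v.2.1 v.2.2 else 0) =
        if a = 0 then 0 else Fintype.card F := by
      intro a
      by_cases h : a = 0
      · rw [if_pos h]
        exact Finset.sum_eq_zero fun v _ => if_neg (not_not_intro h)
      · rw [if_neg h, Finset.sum_congr rfl fun v _ => if_pos h]
        show C.S a = _
        rw [C.S_ne_zero h3 h, hmu, mul_one]
    rw [Finset.sum_congr rfl fun a _ => this a, Finset.sum_ite, Finset.sum_const_zero, zero_add,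
      Finset.sum_const, Finset.filter_ne' Finset.univ (0 : F),
      Finset.card_erase_of_mem (Finset.mem_univ _), Finset.card_univ, smul_eq_mul]
  rw [htot, Fintype.card_prod, Fintype.card_prod, Fintype.card_units, Fintype.card_bool] at hcount
  have hpos : 0 < Fintype.card F * (Fintype.card F - 1) := Nat.mul_pos (by omega) (by omega)
  rw [← mul_assoc, mul_comm (Fintype.card F - 1)] at hcount
  omega

/-- a line of characters in the support -/
theorem line_le (hq : 2 ≤ Fintype.card F) {b c d : F} (hv : ¬ (b = 0 ∧ c = 0 ∧ d = 0))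
    (T : Finset (F × F × F))
    (hT : ∀ w : Fˣ, ((b * (w : F), c * (w : F), d * (w : F)) : F × F × F) ∉ T) :
    (Fintype.card F - 1) * C.D 0 b c d + ∑ v ∈ T, C.D 0 v.1 v.2.1 v.2.2 ≤ C.S 0 := by
  classical
  let f : Fˣ → F × F × F := fun w => (b * (w : F), c * (w : F), d * (w : F))
  have hf : Function.Injective f := by
    intro w w' h
    simp only [f, Prod.mk.injEq] at h
    apply Units.ext
    rcases not_and_or.mp hv with hb | h'
    · exact mul_left_cancel₀ hb h.1
    rcases not_and_or.mp h' with hc | hd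
    · exact mul_left_cancel₀ hc h.2.1
    · exact mul_left_cancel₀ hd h.2.2
  have hdis : Disjoint (Finset.univ.image f) T := by
    rw [Finset.disjoint_left]
    intro v hv' hv''
    obtain ⟨w, -, rfl⟩ := Finset.mem_image.1 hv'
    exact hT w hv''
  have hsum : ∑ v ∈ Finset.univ.image f, C.D 0 v.1 v.2.1 v.2.2 = (Fintype.card F - 1) * C.D 0 b c d := by
    rw [Finset.sum_image fun x _ y _ h => hf h]
    rw [Finset.sum_congr rfl fun w _ => ?_, Finset.sum_const, Finset.card_univ, Fintype.card_units,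
      smul_eq_mul]
    have := C.D_tor 1 w 0 b c d
    simpa [f] using this
  rw [← hsum, ← Finset.sum_union hdis, S]
  exact Finset.sum_le_sum_of_subset (Finset.subset_univ _)

/-- the degree bound for `q ≡ 2 (mod 3)` and the first bound in general -/
theorem cube_sub_one_le (h3 : (3 : F) ≠ 0) (hρ : C.ρ.IsIrreducible) (hk : 2 ≤ k)
    (hq : 5 ≤ Fintype.card F) :
    Fintype.card F ^ 3 + 1 ≤ k ∨ (C.mu = 1 ∧ Fintype.card F ^ 3 - 1 ≤ k) := by
  have hmu := C.mu_pos h3 hρ hk (by omega)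
  have hk' := C.k_eq h3
  obtain ⟨n, hn⟩ : ∃ n, Fintype.card F = n + 1 := ⟨Fintype.card F - 1, by omega⟩
  rw [hn] at hk' hq ⊢
  rw [Nat.add_sub_cancel] at hk'
  rcases Nat.lt_or_ge C.mu 2 with h | h
  · right
    have hmu1 : C.mu = 1 := by omega
    obtain ⟨b, c, d, hv, hD⟩ := C.exists_zero_supp h3 (hn ▸ hq) hmu1
    have := C.line_le (by omega) hv ∅ (fun w => Finset.notMem_empty _)
    rw [Finset.sum_empty, add_zero, hn, Nat.add_sub_cancel] at this
    have hn' : n ≤ C.S 0 := le_trans (Nat.le_mul_of_pos_right n (Nat.pos_of_ne_zero hD)) this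
    refine ⟨hmu1, ?_⟩
    rw [hmu1, mul_one] at hk'
    have : (n + 1) ^ 3 = n * ((n + 1) * (n + 1)) + n * (n + 1) + n + 1 := by ring
    omega
  · left
    have h1 : n * ((n + 1) * ((n + 1) * 2)) ≤ n * ((n + 1) * ((n + 1) * C.mu)) :=
      Nat.mul_le_mul_left _ (Nat.mul_le_mul_left _ (Nat.mul_le_mul_left _ h))
    have h2 : n * ((n + 1) * 2) ≤ n * ((n + 1) * C.mu) :=
      Nat.mul_le_mul_left _ (Nat.mul_le_mul_left _ h)
    have h4 : 4 * 4 ≤ n * n := Nat.mul_le_mul (by omega) (by omega)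
    have h5 : 4 * 4 ≤ n * n := h4
    nlinarith

/-- the configuration left over for `q ≡ 1 (mod 3)` -/
structure Small : Prop where
  mu_one : C.mu = 1
  origin : C.D 0 0 0 0 ≤ 1
  top : ∀ d : F, d ≠ 0 → C.D 0 0 0 d = 1
  other : ∀ b c d : F, ¬ (b = 0 ∧ c = 0) → C.D 0 b c d = 0
  deg : k + 1 = Fintype.card F ^ 3 + C.D 0 0 0 0

theorem small_of_lt (h3 : (3 : F) ≠ 0) (hρ : C.ρ.IsIrreducible) (hk : 2 ≤ k)
    (hq : 5 ≤ Fintype.card F) (hlt : k ≤ Fintype.card F ^ 3) : C.Small := by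
  classical
  have hmu1 : C.mu = 1 := by
    rcases C.cube_sub_one_le h3 hρ hk hq with h | h
    · omega
    · exact h.1
  have hk' := C.k_eq h3
  rw [hmu1, mul_one] at hk'
  set q := Fintype.card F with hqdef
  have hS : C.S 0 ≤ q := by
    obtain ⟨n, hn⟩ : ∃ n, q = n + 1 := ⟨q - 1, by omega⟩
    rw [hn, Nat.add_sub_cancel] at hk'
    rw [hn] at hlt ⊢
    have : (n + 1) ^ 3 = n * ((n + 1) * (n + 1)) + n * (n + 1) + n + 1 := by ring
    omega
  obtain ⟨b₀, c₀, d₀, hv₀, hD₀⟩ := C.exists_zero_supp h3 hq hmu1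
  let line : Finset (F × F × F) := Finset.univ.image fun w : Fˣ =>
    ((b₀ * (w : F), c₀ * (w : F), d₀ * (w : F)) : F × F × F)
  have hone : C.D 0 b₀ c₀ d₀ = 1 := by
    have := C.line_le (by omega) hv₀ ∅ (fun w => Finset.notMem_empty _)
    rw [Finset.sum_empty, add_zero] at this
    by_contra hne
    have h2 : 2 ≤ C.D 0 b₀ c₀ d₀ := by omega
    have := le_trans (Nat.mul_le_mul_left _ h2) this
    omega
  -- everything else in the slice
  have hrest : ∀ b c d : F, C.D 0 b c d ≠ 0 → (b, c, d) ∉ line →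
      (b, c, d) = (0, 0, 0) ∧ C.D 0 b c d = 1 := by
    intro b c d hD hnot
    have h1 := C.line_le (by omega) hv₀ {(b, c, d)} fun w hw => hnot (Finset.mem_image.2
      ⟨w, Finset.mem_univ _, Finset.mem_singleton.mp hw⟩)
    rw [Finset.sum_singleton, hone, mul_one] at h1
    simp only at h1
    have hle : C.D 0 b c d ≤ 1 := by omega
    refine ⟨?_, by omega⟩
    by_contra hne
    have hv : ¬ (b = 0 ∧ c = 0 ∧ d = 0) := fun h => hne (by rw [h.1, h.2.1, h.2.2])
    have h2 := C.line_le (by omega) hv line fun w hw => by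
      obtain ⟨w', -, hw'⟩ := Finset.mem_image.1 hw
      apply hnot
      refine Finset.mem_image.2 ⟨w' * w⁻¹, Finset.mem_univ _, ?_⟩
      simp only [Prod.mk.injEq] at hw' ⊢
      obtain ⟨e1, e2, e3⟩ := hw'
      rw [Units.val_mul, Units.val_inv_eq_inv_val]
      refine ⟨?_, ?_, ?_⟩
      · rw [← mul_assoc, e1, mul_assoc, mul_inv_cancel₀ (Units.ne_zero w), mul_one]
      · rw [← mul_assoc, e2, mul_assoc, mul_inv_cancel₀ (Units.ne_zero w), mul_one]
      · rw [← mul_assoc, e3, mul_assoc, mul_inv_cancel₀ (Units.ne_zero w), mul_one]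
    have h3' : (q - 1) * 1 ≤ ∑ v ∈ line, C.D 0 v.1 v.2.1 v.2.2 := by
      rw [mul_one]
      calc q - 1 = line.card := by
            rw [Finset.card_image_of_injective, Finset.card_univ, Fintype.card_units]
            intro w w' h
            simp only [Prod.mk.injEq] at h
            apply Units.ext
            rcases not_and_or.mp hv₀ with hb | h'
            · exact mul_left_cancel₀ hb h.1
            rcases not_and_or.mp h' with hc | hd
            · exact mul_left_cancel₀ hc h.2.1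
            · exact mul_left_cancel₀ hd h.2.2
        _ = ∑ _v ∈ line, 1 := by rw [Finset.sum_const, smul_eq_mul, mul_one]
        _ ≤ _ := Finset.sum_le_sum fun v hv' => by
            obtain ⟨w, -, rfl⟩ := Finset.mem_image.1 hv'
            have := C.D_tor 1 w 0 b₀ c₀ d₀
            simp only [zero_mul, one_mul, one_pow] at this
            simp only [this, hone, le_refl]
    have : (q - 1) * 1 ≤ (q - 1) * C.D 0 b c d := Nat.mul_le_mul_left _ (by omega)
    rw [← hqdef] at h2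
    omega
  obtain ⟨g, hg1, hg2, -⟩ := exists_unit (F := F) hq
  have huinv : ∀ u : Fˣ, ∃ w : Fˣ, b₀ * (u : F) = b₀ * (w : F) ∧ c₀ * (u : F) ^ 2 = c₀ * (w : F) ∧
      d₀ * (u : F) ^ 3 = d₀ * (w : F) := by
    intro u
    have e := C.D_tor u 1 0 b₀ c₀ d₀
    simp only [zero_mul, mul_one, Units.val_pow_eq_pow_val] at e
    rw [hone] at e
    by_cases hm : (b₀ * (u : F), c₀ * (u : F) ^ 2, d₀ * (u : F) ^ 3) ∈ line
    · obtain ⟨w, -, hw⟩ := Finset.mem_image.1 hm
      simp only [Prod.mk.injEq] at hw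
      exact ⟨w, hw.1.symm, hw.2.1.symm, hw.2.2.symm⟩
    · obtain ⟨h0, -⟩ := hrest _ _ _ (by omega) hm
      simp only [Prod.mk.injEq, mul_eq_zero, Units.ne_zero, or_false, pow_eq_zero_iff, ne_eq,
        OfNat.ofNat_ne_zero, not_false_eq_true] at h0
      exact absurd h0 hv₀
  obtain ⟨w, hwb, hwc, hwd⟩ := huinv g
  have hg0 : (g : F) ≠ 0 := g.ne_zero
  have hbc : ¬ (b₀ ≠ 0 ∧ c₀ ≠ 0) := fun ⟨hb, hc⟩ => by
    have e := (mul_left_cancel₀ hc hwc).trans (mul_left_cancel₀ hb hwb).symm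
    apply hg1
    apply Units.ext
    rw [pow_two] at e
    simpa [hg0] using e
  have hbd : ¬ (b₀ ≠ 0 ∧ d₀ ≠ 0) := fun ⟨hb, hd⟩ => by
    have e := (mul_left_cancel₀ hd hwd).trans (mul_left_cancel₀ hb hwb).symm
    apply hg2
    apply Units.ext
    rw [pow_succ] at e
    simpa [hg0] using e
  have hcd : ¬ (c₀ ≠ 0 ∧ d₀ ≠ 0) := fun ⟨hc, hd⟩ => by
    have e := (mul_left_cancel₀ hd hwd).trans (mul_left_cancel₀ hc hwc).symm
    apply hg1
    apply Units.ext
    rw [pow_succ] at e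
    simpa [hg0] using e
  obtain ⟨e₁, e₂, e₃, e₄, h1, h2, h3', h4, hswap⟩ := C.D_swap
  have hb₀ : b₀ = 0 := by
    by_contra hb
    have hc : c₀ = 0 := by by_contra hc; exact hbc ⟨hb, hc⟩
    have hd : d₀ = 0 := by by_contra hd; exact hbd ⟨hb, hd⟩
    have e := hswap 0 b₀ c₀ d₀
    rw [hone, hc, hd, mul_zero, mul_zero, mul_zero] at e
    have hm : ((0 : F), e₃ * b₀, (0 : F)) ∉ line := fun hm => by
      obtain ⟨w', -, hw'⟩ := Finset.mem_image.1 hm
      simp only [Prod.mk.injEq, mul_eq_zero, Units.ne_zero, or_false] at hw'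
      exact hb hw'.1
    obtain ⟨h0, -⟩ := hrest _ _ _ (by omega) hm
    simp only [Prod.mk.injEq, mul_eq_zero] at h0
    tauto
  have hc₀ : c₀ = 0 := by
    by_contra hc
    have hd : d₀ = 0 := by by_contra hd; exact hcd ⟨hc, hd⟩
    have e := hswap 0 b₀ c₀ d₀
    rw [hone, hb₀, hd, mul_zero, mul_zero, mul_zero] at e
    have hm : (e₂ * c₀, (0 : F), (0 : F)) ∉ line := fun hm => by
      obtain ⟨w', -, hw'⟩ := Finset.mem_image.1 hm
      simp only [Prod.mk.injEq, mul_eq_zero, Units.ne_zero, or_false] at hw'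
      exact hc hw'.2.1
    obtain ⟨h0, -⟩ := hrest _ _ _ (by omega) hm
    simp only [Prod.mk.injEq, mul_eq_zero] at h0
    tauto
  have hd₀ : d₀ ≠ 0 := fun h => hv₀ ⟨hb₀, hc₀, h⟩
  have hmem : ∀ b c d : F, (b, c, d) ∈ line ↔ (b = 0 ∧ c = 0 ∧ d ≠ 0) := by
    intro b c d
    constructor
    · intro h
      obtain ⟨w', -, hw'⟩ := Finset.mem_image.1 h
      simp only [Prod.mk.injEq, hb₀, hc₀, zero_mul] at hw'
      exact ⟨hw'.1.symm, hw'.2.1.symm, hw'.2.2 ▸ mul_ne_zero hd₀ w'.ne_zero⟩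
    · rintro ⟨rfl, rfl, hd⟩
      refine Finset.mem_image.2 ⟨Units.mk0 (d / d₀) (div_ne_zero hd hd₀), Finset.mem_univ _, ?_⟩
      simp only [hb₀, hc₀, zero_mul, Units.val_mk0, mul_div_cancel₀ _ hd₀]
  have htop : ∀ d : F, d ≠ 0 → C.D 0 0 0 d = 1 := by
    intro d hd
    obtain ⟨w', -, hw'⟩ := Finset.mem_image.1 ((hmem 0 0 d).mpr ⟨rfl, rfl, hd⟩)
    simp only [Prod.mk.injEq] at hw'
    have := C.D_tor 1 w' 0 b₀ c₀ d₀
    simp only [zero_mul, one_mul, one_pow] at this
    rw [hw'.1, hw'.2.1, hw'.2.2, hone] at this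
    exact this
  have hother : ∀ b c d : F, ¬ (b = 0 ∧ c = 0) → C.D 0 b c d = 0 := by
    intro b c d hne
    by_contra hD
    obtain ⟨h0, -⟩ := hrest b c d hD fun hm => hne ⟨((hmem b c d).mp hm).1, ((hmem b c d).mp hm).2.1⟩
    simp only [Prod.mk.injEq] at h0
    exact hne ⟨h0.1, h0.2.1⟩
  have hS0 : C.S 0 = (q - 1) + C.D 0 0 0 0 := by
    rw [S, Fintype.sum_prod_type, Finset.sum_eq_single 0 ?_ (by simp), Fintype.sum_prod_type,
      Finset.sum_eq_single 0 ?_ (by simp), ← Finset.add_sum_erase _ _ (Finset.mem_univ (0 : F)),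
      Finset.sum_congr rfl fun d hd => htop d (Finset.ne_of_mem_erase hd), Finset.sum_const,
      Finset.card_erase_of_mem (Finset.mem_univ _), Finset.card_univ, smul_eq_mul, mul_one, add_comm]
    · intro c _ hc
      exact Finset.sum_eq_zero fun d _ => hother 0 c d fun h => hc h.2
    · intro b _ hb
      exact Finset.sum_eq_zero fun v _ => hother b v.1 v.2 fun h => hb h.1
  refine ⟨hmu1, by omega, htop, hother, ?_⟩
  obtain ⟨n, hn⟩ : ∃ n, q = n + 1 := ⟨q - 1, by omega⟩
  rw [hn, Nat.add_sub_cancel] at hk' hS0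
  rw [← hqdef, hn]
  have : (n + 1) ^ 3 = n * ((n + 1) * (n + 1)) + n * (n + 1) + n + 1 := by ring
  omega

end Ctx

end Cfsg.Agent.G2Deg54
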