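import Cfsg.Agent.Chev54.G2Deg.Eigen

/-!
The commutator formulae of G2 that are used in the degree bound.
-/

set_option autoImplicit false

noncomputable section

namespace Cfsg.Agent.G2Deg54

open Cfsg.Lie Cfsg.Agent.ChevGroup Cfsg.Agent.ChevCore Cfsg.Agent.G2Orders80

universe u

variable {F : Type u} [Field F]

/-- Chevalley's formula in the subgroup -/
theorem conj_word (r s : Rt) (L : List (Rt × ℤ × ℕ × ℕ)) (h1 : s.val ≠ r.val)
    (h2 : s.val ≠ chevG2.neg r.val)
    (hL : chevG2.commTerms r.val s.val = L.map fun c => (c.1.val, c.2)) (t u : F) :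
    (X r t : Grp F)⁻¹ * X s u * X r t =
      X s u * (L.map fun c => X c.1 ((c.2.1 : F) * (-t) ^ c.2.2.1 * u ^ c.2.2.2)).prod := by
  apply Subtype.ext
  have e := uGoodG2.toCommGood.xg_comm (F := F) (r := r.val) (s := s.val) r.isLt s.isLt h1 h2 t u
  have eW : ((L.map fun c => (X c.1 ((c.2.1 : F) * (-t) ^ c.2.2.1 * u ^ c.2.2.2) : Grp F)).prod :
      GL chevG2.Idx F) = wordG chevG2 F (chevG2.commWord F r.val s.val t u) := by
    rw [ChevalleyDatum.commWord, hL, wordG, List.map_map, List.map_map, SubmonoidClass.coe_list_prod,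
      List.map_map]
    exact congrArg List.prod (List.map_congr_left fun c _ => val_X _ _)
  rw [Subgroup.coe_mul, Subgroup.coe_mul, Subgroup.coe_mul, Subgroup.coe_inv, val_X, val_X, eW,
    mul_assoc, e]
  group

/-- root groups whose commutator is trivial commute -/
theorem conj_trivial (r s : Rt) (h : r = s ∨ (s.val ≠ chevG2.neg r.val ∧ chevG2.commTerms r.val s.val = []))
    (t u : F) : (X r t : Grp F)⁻¹ * X s u * X r t = X s u := by
  by_cases hrs : r = s
  · subst hrs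
    rw [← X_neg, ← X_add, ← X_add]; congr 1; ring
  obtain ⟨h2, h⟩ := h.resolve_left hrs
  rw [conj_word r s [] (fun e => hrs (Fin.ext e.symm)) h2 (by simpa using h) t u]
  simp

theorem cert_7_6 : chevG2.commTerms 7 6 =
    [(8, -1, 1, 1), (9, 1, 2, 1), (10, 1, 3, 1), (11, 1, 3, 2)] := by decide +kernel

theorem cert_7_8 : chevG2.commTerms 7 8 = [(9, -2, 1, 1), (10, -3, 2, 1), (11, 3, 1, 2)] := by
  decide +kernel

theorem cert_7_9 : chevG2.commTerms 7 9 = [(10, 3, 1, 1)] := by decide +kernel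

theorem cert_6_10 : chevG2.commTerms 6 10 = [(11, 1, 1, 1)] := by decide +kernel

theorem cert_10_6 : chevG2.commTerms 10 6 = [(11, -1, 1, 1)] := by decide +kernel

theorem cert_8_9 : chevG2.commTerms 8 9 = [(11, 3, 1, 1)] := by decide +kernel

theorem cert_9_8 : chevG2.commTerms 9 8 = [(11, -3, 1, 1)] := by decide +kernel

theorem cert_8_7 : chevG2.commTerms 8 7 = [(9, 2, 1, 1), (11, 3, 2, 1), (10, -3, 1, 2)] := by
  decide +kernel

theorem cert_6_7 : chevG2.commTerms 6 7 =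
    [(8, 1, 1, 1), (9, 1, 1, 2), (10, -1, 1, 3), (11, -2, 2, 3)] := by decide +kernel

theorem cert_4_8 : chevG2.commTerms 4 8 = [(6, -3, 1, 1)] := by decide +kernel

theorem cert_4_9 : chevG2.commTerms 4 9 = [(8, -2, 1, 1), (6, 3, 2, 1), (11, -3, 1, 2)] := by
  decide +kernel

theorem cert_4_10 : chevG2.commTerms 4 10 =
    [(9, 1, 1, 1), (8, -1, 2, 1), (6, 1, 3, 1), (11, -1, 3, 2)] := by decide +kernel

variable (t u : F)

theorem conj_7_6 : (X 7 t : Grp F)⁻¹ * X 6 u * X 7 t =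
    X 6 u * (X 8 (t * u) * (X 9 (t ^ 2 * u) * (X 10 (-(t ^ 3 * u)) * X 11 (-(t ^ 3 * u ^ 2))))) := by
  rw [conj_word 7 6 [(8, -1, 1, 1), (9, 1, 2, 1), (10, 1, 3, 1), (11, 1, 3, 2)] (by decide)
    (by decide +kernel) cert_7_6]
  simp only [List.map_cons, List.map_nil, List.prod_cons, List.prod_nil, mul_one]
  push_cast; ring_nf

theorem conj_7_8 : (X 7 t : Grp F)⁻¹ * X 8 u * X 7 t =
    X 8 u * (X 9 (2 * t * u) * (X 10 (-(3 * t ^ 2 * u)) * X 11 (-(3 * t * u ^ 2)))) := by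
  rw [conj_word 7 8 [(9, -2, 1, 1), (10, -3, 2, 1), (11, 3, 1, 2)] (by decide)
    (by decide +kernel) cert_7_8]
  simp only [List.map_cons, List.map_nil, List.prod_cons, List.prod_nil, mul_one]
  push_cast; ring_nf

theorem conj_7_9 : (X 7 t : Grp F)⁻¹ * X 9 u * X 7 t = X 9 u * X 10 (-(3 * t * u)) := by
  rw [conj_word 7 9 [(10, 3, 1, 1)] (by decide) (by decide +kernel) cert_7_9]
  simp only [List.map_cons, List.map_nil, List.prod_cons, List.prod_nil, mul_one]
  push_cast; ring_nf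

theorem conj_6_10 : (X 6 t : Grp F)⁻¹ * X 10 u * X 6 t = X 10 u * X 11 (-(t * u)) := by
  rw [conj_word 6 10 [(11, 1, 1, 1)] (by decide) (by decide +kernel) cert_6_10]
  simp only [List.map_cons, List.map_nil, List.prod_cons, List.prod_nil, mul_one]
  push_cast; ring_nf

theorem conj_10_6 : (X 10 t : Grp F)⁻¹ * X 6 u * X 10 t = X 6 u * X 11 (t * u) := by
  rw [conj_word 10 6 [(11, -1, 1, 1)] (by decide) (by decide +kernel) cert_10_6]
  simp only [List.map_cons, List.map_nil, List.prod_cons, List.prod_nil, mul_one]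
  push_cast; ring_nf

theorem conj_8_9 : (X 8 t : Grp F)⁻¹ * X 9 u * X 8 t = X 9 u * X 11 (-(3 * t * u)) := by
  rw [conj_word 8 9 [(11, 3, 1, 1)] (by decide) (by decide +kernel) cert_8_9]
  simp only [List.map_cons, List.map_nil, List.prod_cons, List.prod_nil, mul_one]
  push_cast; ring_nf

theorem conj_9_8 : (X 9 t : Grp F)⁻¹ * X 8 u * X 9 t = X 8 u * X 11 (3 * t * u) := by
  rw [conj_word 9 8 [(11, -3, 1, 1)] (by decide) (by decide +kernel) cert_9_8]
  simp only [List.map_cons, List.map_nil, List.prod_cons, List.prod_nil, mul_one]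
  push_cast; ring_nf

theorem conj_8_7 : (X 8 t : Grp F)⁻¹ * X 7 u * X 8 t =
    X 7 u * (X 9 (-(2 * t * u)) * (X 11 (3 * t ^ 2 * u) * X 10 (3 * t * u ^ 2))) := by
  rw [conj_word 8 7 [(9, 2, 1, 1), (11, 3, 2, 1), (10, -3, 1, 2)] (by decide)
    (by decide +kernel) cert_8_7]
  simp only [List.map_cons, List.map_nil, List.prod_cons, List.prod_nil, mul_one]
  push_cast; ring_nf

theorem conj_6_7 : (X 6 t : Grp F)⁻¹ * X 7 u * X 6 t =
    X 7 u * (X 8 (-(t * u)) * (X 9 (-(t * u ^ 2)) * (X 10 (t * u ^ 3) * X 11 (-(2 * t ^ 2 * u ^ 3))))) := by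
  rw [conj_word 6 7 [(8, 1, 1, 1), (9, 1, 1, 2), (10, -1, 1, 3), (11, -2, 2, 3)] (by decide)
    (by decide +kernel) cert_6_7]
  simp only [List.map_cons, List.map_nil, List.prod_cons, List.prod_nil, mul_one]
  push_cast; ring_nf

theorem conj_4_8 : (X 4 t : Grp F)⁻¹ * X 8 u * X 4 t = X 8 u * X 6 (3 * t * u) := by
  rw [conj_word 4 8 [(6, -3, 1, 1)] (by decide) (by decide +kernel) cert_4_8]
  simp only [List.map_cons, List.map_nil, List.prod_cons, List.prod_nil, mul_one]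
  push_cast; ring_nf

theorem conj_4_9 : (X 4 t : Grp F)⁻¹ * X 9 u * X 4 t =
    X 9 u * (X 8 (2 * t * u) * (X 6 (3 * t ^ 2 * u) * X 11 (3 * t * u ^ 2))) := by
  rw [conj_word 4 9 [(8, -2, 1, 1), (6, 3, 2, 1), (11, -3, 1, 2)] (by decide)
    (by decide +kernel) cert_4_9]
  simp only [List.map_cons, List.map_nil, List.prod_cons, List.prod_nil, mul_one]
  push_cast; ring_nf

theorem conj_4_10 : (X 4 t : Grp F)⁻¹ * X 10 u * X 4 t =
    X 10 u * (X 9 (-(t * u)) * (X 8 (-(t ^ 2 * u)) * (X 6 (-(t ^ 3 * u)) * X 11 (t ^ 3 * u ^ 2)))) := by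
  rw [conj_word 4 10 [(9, 1, 1, 1), (8, -1, 2, 1), (6, 1, 3, 1), (11, -1, 3, 2)] (by decide)
    (by decide +kernel) cert_4_10]
  simp only [List.map_cons, List.map_nil, List.prod_cons, List.prod_nil, mul_one]
  push_cast; ring_nf

end Cfsg.Agent.G2Deg54
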