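import Cfsg.Agent.Chev54.G2Deg.ThreeBase
import Mathlib.RingTheory.IntegralDomain
import Mathlib.GroupTheory.SpecificGroups.Cyclic

/-!
The generic multiplicity in characteristic three: it is positive, and in the critical case the characters of the
radical form exactly the expected orbits.
-/

set_option autoImplicit false

noncomputable section

namespace Cfsg.Agent.G2Deg54

open Cfsg.Lie Cfsg.Agent.ChevGroup Cfsg.Agent.ChevCore Cfsg.Agent.G2Orders80

universe u

variable {F : Type u} [Field F]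

theorem three_kills (h3 : (3 : F) = 0) (x : F) : 3 * x = 0 := by rw [h3, zero_mul]

namespace Ctx

variable [Fintype F] {k : ℕ} (C : Ctx F k)

theorem D_trans3 (h3 : (3 : F) = 0) (t a b c d : F) :
    C.D (a + t * b + t ^ 2 * c - t ^ 3 * d) (b + 2 * t * c) c d = C.D a b c d := by
  have h := C.D_trans t a b c d
  simpa [h3] using h

theorem D_four_map (h3 : (3 : F) = 0) (t a b c d : F) (x : Fin k → ℂ)
    (hx : x ∈ C.es [(10, d), (9, c), (8, b), (6, a), (11, 0)]) :
    C.ρ (X 4 t) x ∈ C.es [(10, d - t * c - t ^ 2 * b - t ^ 3 * a), (9, c + 2 * t * b), (8, b), (6, a), (11, 0)] := by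
  have h10 := C.act_of_mem hx (s := (10 : Rt)) (a := d) (by simp)
  have h9 := C.act_of_mem hx (s := (9 : Rt)) (a := c) (by simp)
  have h8 := C.act_of_mem hx (s := (8 : Rt)) (a := b) (by simp)
  have h6 := C.act_of_mem hx (s := (6 : Rt)) (a := a) (by simp)
  have h11 := C.act_of_zero hx (s := (11 : Rt)) (by simp)
  refine C.map_mem_es fun p hp u => ?_
  simp only [List.mem_cons, List.not_mem_nil, or_false] at hp
  rcases hp with rfl | rfl | rfl | rfl | rfl
  · simp only [conj_4_10, C.apply_mul, h11, h10, map_smul, h9, h8, h6, smul_smul, ← AddChar.map_add_eq_mul]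
    congr 2; ring
  · simp only [conj_4_9, h3, zero_mul, X_zero, mul_one, C.apply_mul, h9, map_smul, h8, smul_smul,
      ← AddChar.map_add_eq_mul]
    congr 2; ring
  · rw [conj_comm3 h3 (show comm3 (4 : Rt) (8 : Rt) = true by decide +kernel), h8]
  · rw [conj_comm3 h3 (show comm3 (4 : Rt) (6 : Rt) = true by decide +kernel), h6]
  · rw [conj_comm3 h3 (show comm3 (4 : Rt) (11 : Rt) = true by decide +kernel), h11, zero_mul,
      AddChar.map_zero_eq_one, one_smul]

/-- translation by the negative short root -/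
theorem D_four (h3 : (3 : F) = 0) (t a b c d : F) :
    C.D a b (c + 2 * t * b) (d - t * c - t ^ 2 * b - t ^ 3 * a) = C.D a b c d := by
  refine (C.m_eq_of_pair (X 4 t) (X 4 (-t)) (C.D_four_map h3 t a b c d) fun x hx => ?_).symm
  have h := C.D_four_map h3 (-t) _ _ _ _ x hx
  convert h using 9
  · linear_combination (-t ^ 2 * b) * 0 + (0 : F) * h3
  · ring

theorem exists_gen_unit (hq : 5 ≤ Fintype.card F) : ∃ g : F, g ≠ 0 ∧ g ≠ 1 ∧ g ^ 2 ≠ 1 := by
  classical
  obtain ⟨g, hg⟩ := IsCyclic.exists_ofOrder_eq_natCard (α := Fˣ)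
  have hcard : Nat.card Fˣ = Fintype.card F - 1 := by rw [Nat.card_units, Nat.card_eq_fintype_card]
  refine ⟨g, g.ne_zero, fun h => ?_, fun h => ?_⟩
  · rw [Units.val_eq_one] at h
    rw [h, orderOf_one] at hg; omega
  · rw [← Units.val_pow_eq_pow_val, Units.val_eq_one] at h
    have := Nat.le_of_dvd (by norm_num) (orderOf_dvd_of_pow_eq_one h); omega

/-- the generic multiplicity does not vanish -/
theorem rr_pos (h3 : (3 : F) = 0) (hρ : C.ρ.IsIrreducible) (hk : 2 ≤ k) (hq : 9 ≤ Fintype.card F) :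
    1 ≤ C.rr := by
  classical
  by_contra hcon
  have hr : C.rr = 0 := by omega
  have h2 : (2 : F) ≠ 0 := by rw [two_eq_neg_one h3]; exact neg_ne_zero.mpr one_ne_zero
  obtain ⟨μ, hμ, hpos⟩ := C.exists_root_char hρ hk (by omega) 9
  have he : C.ee ≠ 0 := by
    have e : C.m [(9, μ)] = ∑ s₁ : F, ∑ l : F, C.T1 s₁ μ l := by
      rw [C.m_split3 h3 8 _ (by
        simp only [List.mem_cons, List.not_mem_nil, or_false]
        rintro p rfl
        show comm3 (8 : Rt) (9 : Rt) = true; decide +kernel)]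
      refine Finset.sum_congr rfl fun s₁ _ => ?_
      rw [C.m_split3 h3 11 _ (by
        simp only [List.mem_cons, List.not_mem_nil, or_false]
        rintro p (rfl | rfl)
        · show comm3 (11 : Rt) (8 : Rt) = true; decide +kernel
        · show comm3 (11 : Rt) (9 : Rt) = true; decide +kernel)]
      refine Finset.sum_congr rfl fun l _ => C.md_eq_of_mem_iff fun p => ?_
      simp only [List.mem_cons, List.not_mem_nil, or_false]; tauto
    intro he0
    apply hpos.ne'
    rw [e]
    refine Finset.sum_eq_zero fun s₁ _ => Finset.sum_eq_zero fun l _ => ?_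
    by_cases hl : l = 0
    · rw [hl, C.T1_ee h3 (fun h => hμ h.2), he0]
    · rw [C.T1_gen h3 hl (fun h => hμ h.2), hr, mul_zero]
  have hprod : ∀ a b c d : F, a ≠ 0 → b ≠ 0 → C.D a b c d = 0 := by
    intro a b c d ha hb
    have h := C.pair_gen h3 ha hb
    rw [hr, mul_zero] at h
    have h1 := Finset.sum_eq_zero_iff.mp h c (Finset.mem_univ _)
    exact Finset.sum_eq_zero_iff.mp h1 d (Finset.mem_univ _)
  obtain ⟨e₁, e₂, e₃, e₄, h1, h2', h3', h4, hswap⟩ := C.D_swap
  obtain ⟨a, d, hD⟩ : ∃ a d : F, C.D a 0 1 d ≠ 0 := by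
    have h : C.T1 0 1 0 ≠ 0 := by rw [C.T1_ee h3 fun h => one_ne_zero h.2]; exact he
    rw [C.T1_D] at h
    obtain ⟨a, -, ha⟩ := Finset.exists_ne_zero_of_sum_ne_zero h
    obtain ⟨d, -, hd⟩ := Finset.exists_ne_zero_of_sum_ne_zero ha
    exact ⟨a, d, hd⟩
  have hd : d = 0 := by
    by_contra hd
    rw [hswap a 0 1 d] at hD
    exact hD (hprod _ _ _ _ (mul_ne_zero h1 hd) (mul_ne_zero h2' one_ne_zero))
  subst hd
  obtain ⟨g, hg0, -, hg2⟩ := exists_gen_unit (F := F) (by omega)
  obtain ⟨t, ht, hat⟩ : ∃ t : F, t ≠ 0 ∧ a + t ^ 2 ≠ 0 := by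
    by_cases h : a + 1 ^ 2 = 0
    · refine ⟨g, hg0, fun h' => hg2 ?_⟩
      linear_combination h' - h
    · exact ⟨1, one_ne_zero, h⟩
  have e := C.D_trans3 h3 t a 0 1 0
  rw [hprod _ _ _ _ (by simpa using hat) (by simpa using ⟨h2, ht⟩)] at e
  exact hD e.symm

/-- the fibre over a character of the short part -/
theorem fibre_eq (h3 : (3 : F) = 0) {c : F} (hc : c ≠ 0) : ∑ a : F, ∑ d : F, C.D a 0 c d = C.ee := by
  rw [← C.T1_D, C.T1_ee h3 fun h => hc h.2]

/-- the count behind `e ≥ q - 1` -/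
theorem ee_ge (h3 : (3 : F) = 0) : (Fintype.card F - 1) * C.rr ≤ C.ee := by
  classical
  have h1 : ∑ s₂ : F, ∑ a : F, ∑ d : F, C.D a 1 s₂ d = Fintype.card F * C.ee := by
    rw [Finset.sum_congr rfl fun s₂ _ => ((C.T1_D 1 s₂).symm.trans
      (C.T1_ee h3 fun h => one_ne_zero h.1)), Finset.sum_const, Finset.card_univ, smul_eq_mul]
  rw [Finset.sum_comm, ← Finset.add_sum_erase _ _ (Finset.mem_univ (0 : F)),
    Finset.sum_congr rfl fun a ha => C.pair_gen h3 (Finset.ne_of_mem_erase ha) one_ne_zero,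
    Finset.sum_const, Finset.card_erase_of_mem (Finset.mem_univ _), Finset.card_univ, smul_eq_mul] at h1
  refine Nat.le_of_mul_le_mul_left ?_ (Fintype.card_pos (α := F))
  rw [mul_left_comm]
  omega

theorem fibre_supp (h3 : (3 : F) = 0) (hq : 9 ≤ Fintype.card F) (he : C.ee ≤ Fintype.card F + 2)
    {a c d : F} (hc : c ≠ 0) (hD : C.D a 0 c d ≠ 0) : a = 0 := by
  classical
  by_contra ha
  let sq : Finset Fˣ := Finset.univ.image fun u : Fˣ => u ^ 2
  have hsq : Fintype.card F - 1 ≤ 2 * sq.card := by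
    rw [← Fintype.card_units, ← Finset.card_univ]
    refine Finset.card_le_mul_card_image _ 2 fun b hb => ?_
    obtain ⟨u₀, -, rfl⟩ := Finset.mem_image.1 hb
    refine le_trans (Finset.card_le_card (t := ({u₀, -u₀} : Finset Fˣ)) fun u hu => ?_) Finset.card_le_two
    have := (Finset.mem_filter.1 hu).2
    simp only [Finset.mem_insert, Finset.mem_singleton]
    rcases sq_eq_sq_iff_eq_or_eq_neg.mp (show (u : F) ^ 2 = (u₀ : F) ^ 2 by
      rw [← Units.val_pow_eq_pow_val, this, Units.val_pow_eq_pow_val]) with h | h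
    · exact Or.inl (Units.ext h)
    · exact Or.inr (Units.ext (by simpa using h))
  let img : Finset F := Finset.univ.image fun t : F => t * c + t ^ 3 * a
  have himg : Fintype.card F ≤ 3 * img.card := by
    rw [← Finset.card_univ]
    refine Finset.card_le_mul_card_image _ 3 fun b hb => ?_
    let P : Polynomial F := Polynomial.C a * Polynomial.X ^ 3 + Polynomial.C c * Polynomial.X - Polynomial.C b
    have hdeg : P.natDegree = 3 := by
      simp only [P]
      compute_degree!
    have hP0 : P ≠ 0 := Polynomial.ne_zero_of_natDegree_gt (n := 2) (by omega)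
    refine le_trans (Finset.card_le_card (t := P.roots.toFinset) fun t ht => ?_) ?_
    · rw [Multiset.mem_toFinset, Polynomial.mem_roots hP0]
      have := (Finset.mem_filter.1 ht).2
      simp only [P, Polynomial.IsRoot.def, Polynomial.eval_sub, Polynomial.eval_add, Polynomial.eval_mul,
        Polynomial.eval_C, Polynomial.eval_pow, Polynomial.eval_X]
      linear_combination this
    · exact le_trans (Multiset.toFinset_card_le _) (hdeg ▸ Polynomial.card_roots' P)
  -- distinct characters in the fibre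
  choose root hroot using fun σ : sq => Finset.mem_image.1 σ.2
  let Φ : sq × img → F × F := fun p =>
    (a * (((root p.1) ^ 2)⁻¹ : Fˣ), (d - p.2.1) * ((root p.1 : Fˣ) : F))
  have hΦinj : Function.Injective Φ := by
    rintro ⟨σ, i⟩ ⟨σ', i'⟩ h
    simp only [Φ, Prod.mk.injEq] at h
    have e : σ = σ' := Subtype.ext (by
      rw [← (hroot σ).2, ← (hroot σ').2]
      exact inv_injective (Units.ext (mul_left_cancel₀ ha h.1)))
    subst e
    refine Prod.ext rfl (Subtype.ext ?_)
    exact sub_right_injective (mul_right_cancel₀ (Units.ne_zero _) h.2)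
  have hΦD : ∀ p, C.D (Φ p).1 0 c (Φ p).2 = C.D a 0 c d := by
    rintro ⟨σ, i⟩
    obtain ⟨t, -, ht⟩ := Finset.mem_image.1 i.2
    conv_rhs => rw [← C.D_four h3 t a 0 c d, ← C.D_tor (root σ) ((root σ) ^ 2)⁻¹]
    simp only [Φ, ← ht, mul_zero, add_zero, sub_zero, zero_mul]
    congr 1
    · rw [mul_inv_cancel, Units.val_one, mul_one]
    · rw [show root σ ^ 3 * (root σ ^ 2)⁻¹ = root σ by group]
      ring
  have hle : sq.card * img.card ≤ C.ee := by
    rw [← C.fibre_eq h3 hc, ← Fintype.sum_prod_type' (fun a' d' => C.D a' 0 c d')]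
    calc sq.card * img.card = ∑ x ∈ Finset.univ.image Φ, 1 := by
          rw [Finset.sum_const, Finset.card_image_of_injective _ hΦinj, Finset.card_univ, smul_eq_mul,
            mul_one, Fintype.card_prod, Fintype.card_coe, Fintype.card_coe]
      _ ≤ ∑ x ∈ Finset.univ.image Φ, C.D x.1 0 c x.2 := by
          refine Finset.sum_le_sum fun x hx => ?_
          obtain ⟨p, -, rfl⟩ := Finset.mem_image.1 hx
          rw [hΦD]; exact Nat.one_le_iff_ne_zero.mpr hD
      _ ≤ _ := Finset.sum_le_sum_of_subset (Finset.subset_univ _)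
  obtain ⟨n, hn⟩ : ∃ n, Fintype.card F = n + 1 := ⟨Fintype.card F - 1, by omega⟩
  rw [hn, Nat.add_sub_cancel] at hsq
  rw [hn] at himg hq he
  have := Nat.mul_le_mul hsq himg
  nlinarith

/-- the configuration left over in characteristic three -/
structure Small3 : Prop where
  rr_one : C.rr = 1
  ee_eq : C.ee = Fintype.card F
  nn_one : C.nn = 1
  fibre_zero : ∀ a c d : F, c ≠ 0 → a ≠ 0 → C.D a 0 c d = 0
  fibre_one : ∀ c d : F, c ≠ 0 → C.D 0 0 c d = 1
  long_top : ∀ d : F, d ≠ 0 → C.D 0 0 0 d = 1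
  long_bot : ∀ a : F, a ≠ 0 → C.D a 0 0 0 = 1
  deg : k + Fintype.card F + 1 = Fintype.card F ^ 4 + Fintype.card F ^ 2 + C.D 0 0 0 0

theorem small3_of_lt (h3 : (3 : F) = 0) (hρ : C.ρ.IsIrreducible) (hk : 2 ≤ k) (hq : 9 ≤ Fintype.card F)
    (hlt : k ≤ Fintype.card F ^ 4 + Fintype.card F ^ 2) : C.Small3 := by
  classical
  have hr := C.rr_pos h3 hρ hk hq
  have hkq := C.k_three h3
  set q := Fintype.card F with hqdef
  obtain ⟨n, hn⟩ : ∃ n, q = n + 1 := ⟨q - 1, by omega⟩
  have hqq : q * q - 1 = n * n + 2 * n := by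
    rw [hn, show (n + 1) * (n + 1) = n * n + 2 * n + 1 by ring, Nat.add_sub_cancel]
  rw [hqq, hn, Nat.add_sub_cancel] at hkq
  rw [hn] at hlt
  have hn8 : 8 ≤ n := by omega
  have hr1 : C.rr = 1 := by
    by_contra h
    have h2 : n * ((n * n + 2 * n) * ((n + 1) * 2)) ≤ n * ((n * n + 2 * n) * ((n + 1) * C.rr)) :=
      Nat.mul_le_mul_left _ (Nat.mul_le_mul_left _ (Nat.mul_le_mul_left _ (by omega)))
    rw [Nat.mul_add] at hkq
    have e1 : n * ((n * n + 2 * n) * ((n + 1) * 2)) = 2 * (n * n * n * n) + 6 * (n * n * n) + 4 * (n * n) := by ring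
    have e2 : (n + 1) ^ 4 + (n + 1) ^ 2 = n * n * n * n + 4 * (n * n * n) + 7 * (n * n) + 6 * n + 2 := by ring
    have e3 : 8 * (n * n * n) ≤ n * n * n * n := by
      rw [mul_comm (n * n * n) n]; exact Nat.mul_le_mul_right _ hn8
    have e4 : 8 * (n * n) ≤ n * n * n := by
      rw [mul_comm (n * n) n]; exact Nat.mul_le_mul_right _ hn8
    have e5 : 8 * n ≤ n * n := Nat.mul_le_mul_right _ hn8
    omega
  rw [hr1, mul_one] at hkq
  have hege : n ≤ C.ee := by
    have := C.ee_ge h3
    rw [hr1, mul_one, ← hqdef, hn] at this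
    omega
  have ebig : n * n * n * n + 4 * (n * n * n) + 7 * (n * n) + 6 * n + 2 = (n + 1) ^ 4 + (n + 1) ^ 2 := by ring
  have emain : n * ((n * n + 2 * n) * (n + 1) + (n + 1) * C.nn) =
      n * n * n * n + 3 * (n * n * n) + 2 * (n * n) + (n * n + n) * C.nn := by ring
  rw [emain] at hkq
  have hele : C.ee ≤ q + 2 := by
    by_contra h
    have : (n * n + 2 * n) * (n + 4) ≤ (n * n + 2 * n) * C.ee := Nat.mul_le_mul_left _ (by omega)
    have e : (n * n + 2 * n) * (n + 4) = n * n * n + 6 * (n * n) + 8 * n := by ring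
    omega
  have hfz : ∀ a c d : F, c ≠ 0 → a ≠ 0 → C.D a 0 c d = 0 := by
    intro a c d hc ha
    by_contra hD
    exact ha (C.fibre_supp h3 hq hele hc hD)
  have hfd : ∀ c d : F, c ≠ 0 → C.D 0 0 c d = C.D 0 0 1 0 := by
    intro c d hc
    have e1 := C.D_four h3 (d / c) 0 0 c d
    rw [mul_zero, mul_zero, sub_zero, mul_zero, sub_zero, add_zero,
      show d - d / c * c = 0 by rw [div_mul_cancel₀ _ hc, sub_self]] at e1
    rw [← e1, ← C.D_tor 1 (Units.mk0 c hc) 0 0 1 0]
    simp
  have hee : C.ee = q * C.D 0 0 1 0 := by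
    rw [← C.fibre_eq h3 one_ne_zero, Finset.sum_eq_single (0 : F)
      (fun a _ ha => Finset.sum_eq_zero fun d _ => hfz a 1 d one_ne_zero ha) (by simp),
      Finset.sum_congr rfl fun d _ => hfd 1 d one_ne_zero, Finset.sum_const, Finset.card_univ, smul_eq_mul]
  have hw : C.D 0 0 1 0 = 1 := by
    by_contra h
    rcases Nat.eq_zero_or_pos (C.D 0 0 1 0) with h0 | h0
    · rw [h0, mul_zero] at hee; omega
    · have : q * 2 ≤ q * C.D 0 0 1 0 := Nat.mul_le_mul_left _ (by omega)
      omega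
  rw [hw, mul_one] at hee
  -- the characters trivial on the short part
  set f := C.D 0 0 0 1 with hf
  have hld : ∀ d : F, d ≠ 0 → C.D 0 0 0 d = f := by
    intro d hd
    rw [hf, ← C.D_tor 1 (Units.mk0 d hd) 0 0 0 1]
    simp
  have hcube : Function.Surjective fun t : F => t ^ 3 := by
    refine Finite.injective_iff_surjective.mp fun x y h => sub_eq_zero.mp (pow_eq_zero_iff (n := 3) (by norm_num) |>.mp ?_)
    linear_combination h - (x ^ 2 * y - x * y ^ 2) * h3
  have hshift : ∀ a d : F, d ≠ 0 → C.D a 0 0 d = f := by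
    intro a d hd
    obtain ⟨t, ht⟩ := hcube (a / d)
    have e := C.D_trans3 h3 t a 0 0 d
    simp only [mul_zero, add_zero] at e
    rw [show a - t ^ 3 * d = 0 by rw [show t ^ 3 = a / d from ht, div_mul_cancel₀ _ hd, sub_self], hld d hd] at e
    exact e.symm
  obtain ⟨e₁, e₂, e₃, e₄, h1, h2', h3', h4, hswap⟩ := C.D_swap
  have hlb : ∀ a : F, a ≠ 0 → C.D a 0 0 0 = f := by
    intro a ha
    rw [hswap, mul_zero, mul_zero, mul_zero, hld _ (mul_ne_zero h4 ha)]
  have hfn : C.nn + n = q * f := by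
    have e := C.pair_zero h3 (one_ne_zero (α := F))
    rw [hr1, mul_one, Finset.sum_eq_single (0 : F)
      (fun c _ hc => Finset.sum_eq_zero fun d _ => hfz 1 c d hc one_ne_zero) (by simp),
      ← Finset.add_sum_erase _ _ (Finset.mem_univ (0 : F)), hlb 1 one_ne_zero,
      Finset.sum_congr rfl fun d hd => hshift 1 d (Finset.ne_of_mem_erase hd), Finset.sum_const,
      Finset.card_erase_of_mem (Finset.mem_univ _), Finset.card_univ, smul_eq_mul, ← hqdef, hn,
      Nat.add_sub_cancel] at e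
    rw [hn, Nat.succ_mul]
    omega
  have hf1 : f = 1 := by
    by_contra h
    rcases Nat.eq_zero_or_pos f with h0 | h0
    · rw [h0, mul_zero] at hfn; omega
    · have hnn : n + 2 ≤ C.nn := by
        have : q * 2 ≤ q * f := Nat.mul_le_mul_left _ (by omega)
        omega
      have : (n * n + n) * (n + 2) ≤ (n * n + n) * C.nn := Nat.mul_le_mul_left _ hnn
      have e : (n * n + n) * (n + 2) = n * n * n + 3 * (n * n) + 2 * n := by ring
      have e' : (n * n + 2 * n) * C.ee = n * n * n + 3 * (n * n) + 2 * n := by rw [hee, hn]; ring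
      have e4 : 8 * (n * n) ≤ n * n * n := by
        rw [mul_comm (n * n) n]; exact Nat.mul_le_mul_right _ hn8
      have e5 : 8 * n ≤ n * n := Nat.mul_le_mul_right _ hn8
      omega
  have hnn : C.nn = 1 := by rw [hf1, mul_one] at hfn; omega
  have hcc : C.cc = n * n + 2 * n + C.D 0 0 0 0 := by
    have e : C.cc = ∑ a : F, ∑ d : F, C.D a 0 0 d := C.T1_D 0 0
    rw [e, sum_pair h3 (fun a d => C.D a 0 0 d) 1 fun a d h => ?_, ← hqdef, hqq, mul_one]
    by_cases hd : d = 0
    · subst hd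
      rw [hlb a fun ha => h ⟨ha, rfl⟩, hf1]
    · rw [hshift a d hd, hf1]
  refine ⟨hr1, hee, hnn, hfz, fun c d hc => (hfd c d hc).trans hw, fun d hd => (hld d hd).trans hf1,
    fun a ha => (hlb a ha).trans hf1, ?_⟩
  rw [hnn, hcc, hee, hn] at hkq
  rw [← hqdef, hn]
  have e : (n * n + 2 * n) * (n + 1) = n * n * n + 3 * (n * n) + 2 * n := by ring
  omega

end Ctx

end Cfsg.Agent.G2Deg54
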