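import Cfsg.Agent.Chev54.G2Deg.Common

/-!
Multiplicities on the centre of the unipotent radical in characteristic three.
-/

set_option autoImplicit false

noncomputable section

namespace Cfsg.Agent.G2Deg54

open Cfsg.Lie Cfsg.Agent.ChevGroup Cfsg.Agent.ChevCore Cfsg.Agent.G2Orders80

universe u

variable {F : Type u} [Field F]

/-- root pairs that commute in characteristic three -/
def comm3 (r s : Rt) : Bool := decide (commB 3 [] [r] [s])

theorem conj_comm3 (h3 : (3 : F) = 0) {r s : Rt} (h : comm3 r s = true) (t u : F) :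
    (X r t : Grp F)⁻¹ * X s u * X r t = X s u := by
  have hm : ((3 : ℕ) : F) = 0 := by exact_mod_cast h3
  have e := comm_mem hm (of_decide_eq_true h) (a := (X r t : Grp F)) (b := X s u)
    ⟨r, by simp, t, rfl⟩ ⟨s, by simp, u, rfl⟩
  rw [XG_nil, Subgroup.mem_bot, commutatorElement_eq_one_iff_mul_comm] at e
  rw [mul_assoc, ← e, inv_mul_cancel_left]

theorem two_eq_neg_one (h3 : (3 : F) = 0) : (2 : F) = -1 := by linear_combination h3

namespace Ctx

variable [Fintype F] {k : ℕ} (C : Ctx F k)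

theorem m_split3 (h3 : (3 : F) = 0) (r : Rt) (L : List (Rt × F))
    (hc : ∀ p ∈ L, comm3 r p.1 = true) : C.m L = ∑ a : F, C.m ((r, a) :: L) :=
  C.md_split ⊤ r L (fun _ _ _ => trivial) fun u x _ hx =>
    C.es_invariant hx fun p hp v => by rw [conj_comm3 h3 (hc p hp)]

/-- multiplicity on the centre -/
def T1 (s₁ s₂ l : F) : ℕ := C.m [(9, s₂), (8, s₁), (11, l)]

theorem T1_trans_map (h3 : (3 : F) = 0) (t s₁ s₂ l : F) (x : Fin k → ℂ)
    (hx : x ∈ C.es [(9, s₂), (8, s₁), (11, l)]) :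
    C.ρ (X 7 t) x ∈ C.es [(9, s₂), (8, s₁ + 2 * t * s₂), (11, l)] := by
  have h9 := C.act_of_mem hx (s := (9 : Rt)) (a := s₂) (by simp)
  have h8 := C.act_of_mem hx (s := (8 : Rt)) (a := s₁) (by simp)
  have h11 := C.act_of_mem hx (s := (11 : Rt)) (a := l) (by simp)
  refine C.map_mem_es fun p hp u => ?_
  simp only [List.mem_cons, List.not_mem_nil, or_false] at hp
  rcases hp with rfl | rfl | rfl
  · rw [conj_comm3 h3 (show comm3 (7 : Rt) (9 : Rt) = true by decide +kernel), h9]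
  · simp only [conj_7_8, h3, zero_mul, neg_zero, X_zero, mul_one, C.apply_mul, h9, map_smul, h8,
      smul_smul, ← AddChar.map_add_eq_mul]
    congr 2; ring
  · rw [conj_comm3 h3 (show comm3 (7 : Rt) (11 : Rt) = true by decide +kernel), h11]

theorem T1_trans (h3 : (3 : F) = 0) (t s₁ s₂ l : F) : C.T1 (s₁ + 2 * t * s₂) s₂ l = C.T1 s₁ s₂ l := by
  refine (C.m_eq_of_pair (X 7 t) (X 7 (-t)) (C.T1_trans_map h3 t s₁ s₂ l) fun x hx => ?_).symm
  have h := C.T1_trans_map h3 (-t) _ _ _ x hx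
  rwa [show s₁ + 2 * t * s₂ + 2 * -t * s₂ = s₁ by ring] at h

theorem T1_tor (u w : Fˣ) (s₁ s₂ l : F) :
    C.T1 (s₁ * (u * w : Fˣ)) (s₂ * (u ^ 2 * w : Fˣ)) (l * (u ^ 3 * w ^ 2 : Fˣ)) = C.T1 s₁ s₂ l := by
  have h := C.m_tor u w [(9, s₂), (8, s₁), (11, l)]
  simp only [List.map_cons, List.map_nil, ev_eight, ev_nine, ev_eleven] at h
  exact h

theorem T1_swap : ∃ e₈ e₉ e : F, e₈ ≠ 0 ∧ e₉ ≠ 0 ∧ e ≠ 0 ∧
    ∀ s₁ s₂ l : F, C.T1 s₁ s₂ l = C.T1 (e₈ * s₂) (e₉ * s₁) (e * l) := by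
  obtain ⟨e, he, h⟩ := C.md_nw ⊤ [0] (fun _ _ => trivial) (fun _ _ => trivial)
  have hne : ∀ s, e s ≠ 0 := fun s h0 => by
    have := he s
    rw [h0, mul_zero] at this
    exact zero_ne_one this
  refine ⟨e 9, e 8, e 11, hne _, hne _, hne _, fun s₁ s₂ l => ?_⟩
  refine (h _).trans (C.md_eq_of_mem_iff fun p => ?_)
  have e9 : wact [0] (9 : Rt) = 8 := by decide +kernel
  have e8 : wact [0] (8 : Rt) = 9 := by decide +kernel
  have e11 : wact [0] (11 : Rt) = 11 := by decide +kernel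
  simp only [List.map_cons, List.map_nil, e9, e8, e11, List.mem_cons, List.not_mem_nil, or_false]
  tauto

open Classical in
/-- the multiplicity only depends on whether the two components vanish -/
theorem T1_eq (h3 : (3 : F) = 0) (s₁ s₂ l : F) :
    C.T1 s₁ s₂ l = C.T1 (if s₁ = 0 ∧ s₂ = 0 then 0 else 1) 0 (if l = 0 then 0 else 1) := by
  have h2 : (2 : F) ≠ 0 := by rw [two_eq_neg_one h3]; exact neg_ne_zero.mpr one_ne_zero
  have hnorm : ∀ s l : F, s ≠ 0 → C.T1 s 0 l = C.T1 1 0 (if l = 0 then 0 else 1) := by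
    intro s l hs
    set S := Units.mk0 s hs
    by_cases hl : l = 0
    · rw [if_pos hl, hl, ← C.T1_tor S⁻¹ 1 s 0 0, zero_mul, zero_mul]
      congr 1
      simp [S, hs]
    · set L := Units.mk0 l hl
      rw [if_neg hl, ← C.T1_tor (S ^ 2 * L⁻¹) (L * S⁻¹ ^ 3) s 0 l, zero_mul]
      congr 1
      · simp only [Units.val_mul, Units.val_pow_eq_pow_val, Units.val_inv_eq_inv_val, Units.val_mk0, S, L]
        field_simp
      · simp only [Units.val_mul, Units.val_pow_eq_pow_val, Units.val_inv_eq_inv_val, Units.val_mk0, S, L]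
        field_simp
  by_cases h0 : s₁ = 0 ∧ s₂ = 0
  · obtain ⟨rfl, rfl⟩ := h0
    rw [if_pos ⟨rfl, rfl⟩]
    by_cases hl : l = 0
    · rw [if_pos hl, hl]
    · set L := Units.mk0 l hl
      rw [if_neg hl, ← C.T1_tor L L⁻¹ 0 0 1, zero_mul, zero_mul]
      congr 1
      simp only [Units.val_mul, Units.val_pow_eq_pow_val, Units.val_inv_eq_inv_val, Units.val_mk0, L]
      field_simp
  · rw [if_neg h0]
    by_cases hs : s₂ = 0
    · subst hs
      exact hnorm s₁ l fun h => h0 ⟨h, rfl⟩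
    · obtain ⟨e₈, e₉, e, h8, h9, he, hswap⟩ := C.T1_swap
      have e1 := C.T1_trans h3 (-s₁ / (2 * s₂)) s₁ s₂ l
      rw [show s₁ + 2 * (-s₁ / (2 * s₂)) * s₂ = 0 by field_simp; ring] at e1
      rw [← e1, hswap 0 s₂ l, mul_zero, hnorm _ _ (mul_ne_zero h8 hs)]
      congr 1
      simp [he]

/-- the generic multiplicity -/
def rr : ℕ := C.m [(6, 0), (9, 0), (8, 1), (11, 1)]

/-- the multiplicity of characters trivial on the short part -/
def nn : ℕ := C.m [(6, 0), (9, 0), (8, 0), (11, 1)]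

theorem six_shift_map (h3 : (3 : F) = 0) (s a s₁ s₂ l : F) (x : Fin k → ℂ)
    (hx : x ∈ C.es [(6, a), (9, s₂), (8, s₁), (11, l)]) :
    C.ρ (X 10 s) x ∈ C.es [(6, a + l * s), (9, s₂), (8, s₁), (11, l)] := by
  have h6 := C.act_of_mem hx (s := (6 : Rt)) (a := a) (by simp)
  have h9 := C.act_of_mem hx (s := (9 : Rt)) (a := s₂) (by simp)
  have h8 := C.act_of_mem hx (s := (8 : Rt)) (a := s₁) (by simp)
  have h11 := C.act_of_mem hx (s := (11 : Rt)) (a := l) (by simp)
  refine C.map_mem_es fun p hp u => ?_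
  simp only [List.mem_cons, List.not_mem_nil, or_false] at hp
  rcases hp with rfl | rfl | rfl | rfl
  · simp only [conj_10_6, C.apply_mul, h11, map_smul, h6, smul_smul, ← AddChar.map_add_eq_mul]
    congr 2; ring
  · rw [conj_comm3 h3 (show comm3 (10 : Rt) (9 : Rt) = true by decide +kernel), h9]
  · rw [conj_comm3 h3 (show comm3 (10 : Rt) (8 : Rt) = true by decide +kernel), h8]
  · rw [conj_comm3 h3 (show comm3 (10 : Rt) (11 : Rt) = true by decide +kernel), h11]

theorem T1_eq_card_mul (h3 : (3 : F) = 0) {l : F} (hl : l ≠ 0) (a s₁ s₂ : F) :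
    C.T1 s₁ s₂ l = Fintype.card F * C.m [(6, a), (9, s₂), (8, s₁), (11, l)] := by
  rw [T1, C.m_split3 h3 6 _ (by
    simp only [List.mem_cons, List.not_mem_nil, or_false]
    rintro p (rfl | rfl | rfl)
    · show comm3 (6 : Rt) (9 : Rt) = true; decide +kernel
    · show comm3 (6 : Rt) (8 : Rt) = true; decide +kernel
    · show comm3 (6 : Rt) (11 : Rt) = true; decide +kernel)]
  have hconst : ∀ b : F, C.m [(6, b), (9, s₂), (8, s₁), (11, l)] = C.m [(6, a), (9, s₂), (8, s₁), (11, l)] := by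
    intro b
    refine (C.m_eq_of_pair (X 10 ((b - a) / l)) (X 10 ((a - b) / l)) (fun x hx => ?_) fun x hx => ?_).symm
    · have := C.six_shift_map h3 ((b - a) / l) a s₁ s₂ l x hx
      rwa [show a + l * ((b - a) / l) = b by field_simp; ring] at this
    · have := C.six_shift_map h3 ((a - b) / l) b s₁ s₂ l x hx
      rwa [show b + l * ((a - b) / l) = a by field_simp; ring] at this
  rw [Finset.sum_congr rfl fun b _ => hconst b, Finset.sum_const, Finset.card_univ, smul_eq_mul]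

theorem m_four_gen (h3 : (3 : F) = 0) {l : F} (hl : l ≠ 0) (a : F) {s₁ s₂ : F} (hs : ¬ (s₁ = 0 ∧ s₂ = 0)) :
    C.m [(6, a), (9, s₂), (8, s₁), (11, l)] = C.rr := by
  classical
  apply Nat.eq_of_mul_eq_mul_left (Fintype.card_pos (α := F))
  rw [← C.T1_eq_card_mul h3 hl, C.T1_eq h3, if_neg hs, if_neg hl, C.T1_eq_card_mul h3 one_ne_zero 0, rr]

theorem m_four_zero (h3 : (3 : F) = 0) {l : F} (hl : l ≠ 0) (a : F) :
    C.m [(6, a), (9, 0), (8, 0), (11, l)] = C.nn := by
  classical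
  apply Nat.eq_of_mul_eq_mul_left (Fintype.card_pos (α := F))
  rw [← C.T1_eq_card_mul h3 hl, C.T1_eq h3, if_pos ⟨rfl, rfl⟩, if_neg hl,
    C.T1_eq_card_mul h3 one_ne_zero 0, nn]

/-- multiplicity of the characters with trivial centre and non-trivial short part -/
def ee : ℕ := C.T1 1 0 0

/-- multiplicity of the trivial character of centre and short part -/
def cc : ℕ := C.T1 0 0 0

theorem T1_gen (h3 : (3 : F) = 0) {l : F} (hl : l ≠ 0) {s₁ s₂ : F} (hs : ¬ (s₁ = 0 ∧ s₂ = 0)) :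
    C.T1 s₁ s₂ l = Fintype.card F * C.rr := by
  rw [C.T1_eq_card_mul h3 hl 0, C.m_four_gen h3 hl 0 hs]

theorem T1_zero (h3 : (3 : F) = 0) {l : F} (hl : l ≠ 0) :
    C.T1 0 0 l = Fintype.card F * C.nn := by
  rw [C.T1_eq_card_mul h3 hl 0, C.m_four_zero h3 hl 0]

theorem T1_ee (h3 : (3 : F) = 0) {s₁ s₂ : F} (hs : ¬ (s₁ = 0 ∧ s₂ = 0)) : C.T1 s₁ s₂ 0 = C.ee := by
  classical
  rw [C.T1_eq h3, if_neg hs, if_pos rfl, ee]

/-- the four-coordinate decomposition for trivial centre -/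
theorem T1_D (s₁ s₂ : F) : C.T1 s₁ s₂ 0 = ∑ a : F, ∑ d : F, C.D a s₁ s₂ d := by
  rw [T1, C.m_splitQ 6 _ (by decide) (by simp [QR]) (by simp)]
  refine Finset.sum_congr rfl fun a _ => ?_
  rw [C.m_splitQ 10 _ (by decide) (by simp [QR]) (by simp)]
  refine Finset.sum_congr rfl fun d _ => C.md_eq_of_mem_iff fun p => ?_
  simp only [List.mem_cons, List.not_mem_nil, or_false]; tauto

theorem sum_pair (h3 : (3 : F) = 0) (g : F → F → ℕ) (gen : ℕ)
    (hg : ∀ s₁ s₂, ¬ (s₁ = 0 ∧ s₂ = 0) → g s₁ s₂ = gen) :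
    ∑ s₁ : F, ∑ s₂ : F, g s₁ s₂ = (Fintype.card F * Fintype.card F - 1) * gen + g 0 0 := by
  classical
  rw [← Fintype.sum_prod_type' g, ← Finset.add_sum_erase _ _ (Finset.mem_univ ((0 : F), (0 : F))),
    Finset.sum_congr rfl fun v hv => hg v.1 v.2 fun h => Finset.ne_of_mem_erase hv (Prod.ext h.1 h.2),
    Finset.sum_const, Finset.card_erase_of_mem (Finset.mem_univ _), Finset.card_univ, Fintype.card_prod,
    smul_eq_mul, add_comm]

/-- the degree in terms of the basic multiplicities -/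
theorem k_three (h3 : (3 : F) = 0) :
    k = (Fintype.card F - 1) *
        ((Fintype.card F * Fintype.card F - 1) * (Fintype.card F * C.rr) + Fintype.card F * C.nn) +
      ((Fintype.card F * Fintype.card F - 1) * C.ee + C.cc) := by
  classical
  have hk := C.k_eq_sum 11
  have hsp : ∀ l : F, C.m [(11, l)] = ∑ s₁ : F, ∑ s₂ : F, C.T1 s₁ s₂ l := by
    intro l
    rw [C.m_split3 h3 8 _ (by
      simp only [List.mem_cons, List.not_mem_nil, or_false]
      rintro p rfl
      show comm3 (8 : Rt) (11 : Rt) = true; decide +kernel)]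
    refine Finset.sum_congr rfl fun s₁ _ => ?_
    exact C.m_split3 h3 9 _ (by
      simp only [List.mem_cons, List.not_mem_nil, or_false]
      rintro p (rfl | rfl)
      · show comm3 (9 : Rt) (8 : Rt) = true; decide +kernel
      · show comm3 (9 : Rt) (11 : Rt) = true; decide +kernel)
  have hl : ∀ l : F, l ≠ 0 → C.m [(11, l)] =
      (Fintype.card F * Fintype.card F - 1) * (Fintype.card F * C.rr) + Fintype.card F * C.nn := by
    intro l hl
    rw [hsp, sum_pair h3 (fun a b => C.T1 a b l) _ fun a b h => C.T1_gen h3 hl h, C.T1_zero h3 hl]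
  rw [← Finset.add_sum_erase _ _ (Finset.mem_univ (0 : F)),
    Finset.sum_congr rfl fun l h => hl l (Finset.ne_of_mem_erase h), Finset.sum_const,
    Finset.card_erase_of_mem (Finset.mem_univ _), Finset.card_univ, smul_eq_mul, hsp,
    sum_pair h3 (fun a b => C.T1 a b 0) _ fun a b h => C.T1_ee h3 h, add_comm] at hk
  exact hk

theorem sum_T1_row (h3 : (3 : F) = 0) {s l : F} (hs : s ≠ 0) (hl : l ≠ 0) :
    ∑ s₂ : F, C.T1 s s₂ l = Fintype.card F * (Fintype.card F * C.rr) := by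
  rw [Finset.sum_congr rfl fun s₂ _ => C.T1_gen h3 hl (fun h => hs h.1), Finset.sum_const,
    Finset.card_univ, smul_eq_mul]

theorem sum_T1_row0 (h3 : (3 : F) = 0) {l : F} (hl : l ≠ 0) :
    ∑ s₂ : F, C.T1 0 s₂ l = Fintype.card F * C.nn + (Fintype.card F - 1) * (Fintype.card F * C.rr) := by
  classical
  rw [← Finset.add_sum_erase _ _ (Finset.mem_univ (0 : F)), C.T1_zero h3 hl,
    Finset.sum_congr rfl fun s₂ hs => C.T1_gen h3 hl (fun h => Finset.ne_of_mem_erase hs h.2),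
    Finset.sum_const, Finset.card_erase_of_mem (Finset.mem_univ _), Finset.card_univ, smul_eq_mul]

/-- an adjacent long and short pair is conjugate to a pair in the centre -/
theorem pair_conj (h3 : (3 : F) = 0) {a : F} (ha : a ≠ 0) (s₁ : F) :
    ∃ s l : F, (s = 0 ↔ s₁ = 0) ∧ l ≠ 0 ∧ C.m [(8, s₁), (6, a)] = ∑ s₂ : F, C.T1 s s₂ l := by
  obtain ⟨e, he, h⟩ := C.md_nw ⊤ [0, 1, 0] (fun _ _ => trivial) (fun _ _ => trivial)
  have hne : ∀ s, e s ≠ 0 := fun s h0 => by
    have := he s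
    rw [h0, mul_zero] at this
    exact zero_ne_one this
  refine ⟨e 8 * s₁, e 6 * a, by simp [hne], mul_ne_zero (hne 6) ha, (h _).trans ?_⟩
  have e8 : wact [0, 1, 0] (8 : Rt) = 8 := by decide +kernel
  have e6 : wact [0, 1, 0] (6 : Rt) = 11 := by decide +kernel
  simp only [List.map_cons, List.map_nil, e8, e6]
  exact C.m_split3 h3 9 _ (by
    simp only [List.mem_cons, List.not_mem_nil, or_false]
    rintro p (rfl | rfl)
    · show comm3 (9 : Rt) (8 : Rt) = true; decide +kernel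
    · show comm3 (9 : Rt) (11 : Rt) = true; decide +kernel)

open Classical in
theorem pair_split (h3 : (3 : F) = 0) (a s₁ : F) :
    C.m [(8, s₁), (6, a)] =
      (∑ l ∈ Finset.univ.erase (0 : F), ∑ s₂ : F, C.m [(6, a), (9, s₂), (8, s₁), (11, l)]) +
        ∑ s₂ : F, ∑ d : F, C.D a s₁ s₂ d := by
  rw [C.m_split3 h3 11 _ (by
      simp only [List.mem_cons, List.not_mem_nil, or_false]
      rintro p (rfl | rfl)
      · show comm3 (11 : Rt) (8 : Rt) = true; decide +kernel
      · show comm3 (11 : Rt) (6 : Rt) = true; decide +kernel)]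
  have hl : ∀ l : F, C.m [(11, l), (8, s₁), (6, a)] = ∑ s₂ : F, C.m [(9, s₂), (11, l), (8, s₁), (6, a)] :=
    fun l => C.m_split3 h3 9 _ (by
      simp only [List.mem_cons, List.not_mem_nil, or_false]
      rintro p (rfl | rfl | rfl)
      · show comm3 (9 : Rt) (11 : Rt) = true; decide +kernel
      · show comm3 (9 : Rt) (8 : Rt) = true; decide +kernel
      · show comm3 (9 : Rt) (6 : Rt) = true; decide +kernel)
  rw [← Finset.add_sum_erase _ _ (Finset.mem_univ (0 : F)), add_comm]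
  refine congrArg₂ (· + ·) (Finset.sum_congr rfl fun l _ => ?_) ?_
  · rw [hl]
    refine Finset.sum_congr rfl fun s₂ _ => C.md_eq_of_mem_iff fun p => ?_
    simp only [List.mem_cons, List.not_mem_nil, or_false]; tauto
  · rw [hl]
    refine Finset.sum_congr rfl fun s₂ _ => ?_
    rw [C.m_splitQ 10 _ (by decide) (by simp [QR]) (by simp)]
    refine Finset.sum_congr rfl fun d _ => C.md_eq_of_mem_iff fun p => ?_
    simp only [List.mem_cons, List.not_mem_nil, or_false]; tauto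

/-- first pair equation -/
theorem pair_gen (h3 : (3 : F) = 0) {a : F} (ha : a ≠ 0) {s₁ : F} (hs : s₁ ≠ 0) :
    ∑ s₂ : F, ∑ d : F, C.D a s₁ s₂ d = Fintype.card F * C.rr := by
  classical
  obtain ⟨s, l, hs', hl, e⟩ := C.pair_conj h3 ha s₁
  rw [C.sum_T1_row h3 (fun h => hs (hs'.mp h)) hl, C.pair_split h3] at e
  rw [Finset.sum_congr rfl fun l hl => (Finset.sum_congr rfl fun s₂ _ =>
      C.m_four_gen h3 (Finset.ne_of_mem_erase hl) a (s₁ := s₁) (s₂ := s₂) fun h => hs h.1),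
    Finset.sum_const, Finset.sum_const, Finset.card_erase_of_mem (Finset.mem_univ _), Finset.card_univ,
    smul_eq_mul, smul_eq_mul] at e
  obtain ⟨n, hn⟩ : ∃ n, Fintype.card F = n + 1 := ⟨Fintype.card F - 1, by
    have := Fintype.card_pos (α := F); omega⟩
  rw [hn] at e ⊢
  rw [Nat.add_sub_cancel, Nat.succ_mul n ((n + 1) * C.rr)] at e
  omega

/-- second pair equation -/
theorem pair_zero (h3 : (3 : F) = 0) {a : F} (ha : a ≠ 0) :
    (∑ s₂ : F, ∑ d : F, C.D a 0 s₂ d) + C.rr = C.nn + Fintype.card F * C.rr := by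
  classical
  obtain ⟨s, l, hs', hl, e⟩ := C.pair_conj h3 ha 0
  rw [hs'.mpr rfl, C.sum_T1_row0 h3 hl, C.pair_split h3] at e
  have hin : ∀ l' ∈ Finset.univ.erase (0 : F), ∑ s₂ : F, C.m [(6, a), (9, s₂), (8, 0), (11, l')] =
      C.nn + (Fintype.card F - 1) * C.rr := by
    intro l' hl'
    rw [← Finset.add_sum_erase _ _ (Finset.mem_univ (0 : F)), C.m_four_zero h3 (Finset.ne_of_mem_erase hl') a,
      Finset.sum_congr rfl fun s₂ hs => C.m_four_gen h3 (Finset.ne_of_mem_erase hl') a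
        (fun h => Finset.ne_of_mem_erase hs h.2),
      Finset.sum_const, Finset.card_erase_of_mem (Finset.mem_univ _), Finset.card_univ, smul_eq_mul]
  rw [Finset.sum_congr rfl hin, Finset.sum_const, Finset.card_erase_of_mem (Finset.mem_univ _),
    Finset.card_univ, smul_eq_mul] at e
  obtain ⟨n, hn⟩ : ∃ n, Fintype.card F = n + 1 := ⟨Fintype.card F - 1, by
    have := Fintype.card_pos (α := F); omega⟩
  rw [hn, Nat.add_sub_cancel] at e
  rw [hn]
  simp only [Nat.mul_add, Nat.add_mul, Nat.mul_assoc, Nat.one_mul] at e ⊢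
  omega

end Ctx

end Cfsg.Agent.G2Deg54
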