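import Cfsg.Agent.Chev54.G2Deg.Three
import Cfsg.Agent.Lib.CharClifford.Central

/-!
In the critical case in characteristic three the degree does not divide the group order.
-/

set_option autoImplicit false

noncomputable section

namespace Cfsg.Agent.G2Deg54

open Cfsg.Lie Cfsg.Agent.ChevGroup Cfsg.Agent.ChevCore Cfsg.Agent.G2Orders80

universe u

/-- no divisor of the group order is one of the three remaining degrees -/
theorem arith_false {m k : ℕ} (hq : 9 ≤ 3 ^ m)
    (hk : k + 2 = (3 ^ m) ^ 4 + (3 ^ m) ^ 2 ∨ k + 1 = (3 ^ m) ^ 4 + (3 ^ m) ^ 2 ∨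
      k = (3 ^ m) ^ 4 + (3 ^ m) ^ 2)
    (hdvd : k ∣ (3 ^ m) ^ 6 * ((3 ^ m) ^ 2 - 1) * ((3 ^ m) ^ 6 - 1)) : False := by
  obtain ⟨q, hqdef⟩ : ∃ q, q = 3 ^ m := ⟨_, rfl⟩
  rw [← hqdef] at hq hk hdvd
  have hm : 1 ≤ m := by
    rcases Nat.eq_zero_or_pos m with rfl | h
    · rw [pow_zero] at hqdef; omega
    · exact h
  have h3q : 3 ∣ q := hqdef ▸ dvd_pow_self 3 (by omega)
  have hcop : ∀ n : ℕ, ¬ 3 ∣ n → Nat.Coprime n (q ^ 6) := by
    intro n hn
    rw [hqdef, ← pow_mul]
    exact Nat.Coprime.pow_right _ ((Nat.prime_three.coprime_iff_not_dvd.mpr hn).symm)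
  obtain ⟨x, hx⟩ : ∃ x, x = q ^ 2 := ⟨_, rfl⟩
  have h3x : 3 ∣ x := hx ▸ dvd_pow h3q two_ne_zero
  have hx81 : 81 ≤ x := by rw [hx]; nlinarith
  have e6 : q ^ 6 = x ^ 3 := by rw [hx, ← pow_mul]
  have e4 : q ^ 4 = x ^ 2 := by rw [hx, ← pow_mul]
  rw [← hx, mul_assoc] at hdvd
  rw [← hx, e4] at hk
  have hx1 : 1 ≤ x := by omega
  have hx3 : 1 ≤ x ^ 3 := Nat.one_le_pow _ _ (by omega)
  have hle : x ≤ x ^ 2 := Nat.le_self_pow two_ne_zero x
  rcases hk with hk | hk | hk
  · have hfac : k = (x + 2) * (x - 1) := by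
      zify [hx1]
      have : (k : ℤ) + 2 = (x : ℤ) ^ 2 + x := by exact_mod_cast hk
      linear_combination this
    rw [hfac] at hdvd
    have h1 : x + 2 ∣ q ^ 6 * (q ^ 6 - 1) := by
      refine Nat.dvd_of_mul_dvd_mul_right (show 0 < x - 1 by omega) (hdvd.trans (dvd_of_eq ?_))
      ring
    have h2 := (hcop (x + 2) (by omega)).dvd_of_dvd_mul_left h1
    rw [e6] at h2
    have h2' : ((x : ℤ) + 2) ∣ (x : ℤ) ^ 3 - 1 := by
      have := Int.natCast_dvd_natCast.mpr h2
      push_cast [hx3] at this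
      exact this
    have h3 : ((x : ℤ) + 2) ∣ 9 := by
      have e : (9 : ℤ) = ((x : ℤ) + 2) * ((x : ℤ) ^ 2 - 2 * x + 4) - ((x : ℤ) ^ 3 - 1) := by ring
      rw [e]; exact dvd_sub (dvd_mul_right _ _) h2'
    have := Int.le_of_dvd (by norm_num) h3
    omega
  · have hndvd : ¬ 3 ∣ k := by
      intro h
      have : 3 ∣ x ^ 2 + x := dvd_add (dvd_pow h3x two_ne_zero) h3x
      omega
    have h1 := (hcop k hndvd).dvd_of_dvd_mul_left hdvd
    rw [e6] at h1
    have h2 : (k : ℤ) ∣ ((x : ℤ) - 1) * ((x : ℤ) ^ 3 - 1) := by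
      have := Int.natCast_dvd_natCast.mpr h1
      push_cast [hx3, hx1] at this
      exact this
    have hkz : (k : ℤ) = (x : ℤ) ^ 2 + x - 1 := by
      have : (k : ℤ) + 1 = (x : ℤ) ^ 2 + x := by exact_mod_cast hk
      linarith
    have h3 : (k : ℤ) ∣ 6 * (x : ℤ) - 4 := by
      have e : 6 * (x : ℤ) - 4 = (k : ℤ) * ((x : ℤ) ^ 2 - 2 * x + 3) - ((x : ℤ) - 1) * ((x : ℤ) ^ 3 - 1) := by
        rw [hkz]; ring
      rw [e]; exact dvd_sub (dvd_mul_right _ _) h2
    have h5 := Int.le_of_dvd (by omega) h3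
    rw [hkz] at h5
    nlinarith
  · have hfac : k = x * (x + 1) := by rw [hk]; ring
    have h1 : x + 1 ∣ q ^ 6 * ((x - 1) * (q ^ 6 - 1)) := (hfac ▸ dvd_mul_left (x + 1) x).trans hdvd
    have h2 := (hcop (x + 1) (by omega)).dvd_of_dvd_mul_left h1
    rw [e6] at h2
    have h2' : ((x : ℤ) + 1) ∣ ((x : ℤ) - 1) * ((x : ℤ) ^ 3 - 1) := by
      have := Int.natCast_dvd_natCast.mpr h2
      push_cast [hx3, hx1] at this
      exact this
    have h3 : ((x : ℤ) + 1) ∣ 4 := by
      have e : (4 : ℤ) = ((x : ℤ) - 1) * ((x : ℤ) ^ 3 - 1) -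
          ((x : ℤ) + 1) * ((x : ℤ) ^ 3 - 2 * (x : ℤ) ^ 2 + 2 * x - 3) := by ring
      rw [e]; exact dvd_sub h2' (dvd_mul_right _ _)
    have := Int.le_of_dvd (by norm_num) h3
    omega

variable {F : Type u} [Field F]

namespace Ctx

variable [Fintype F] {k : ℕ} (C : Ctx F k)

theorem shift_eight_seven (h3 : (3 : F) = 0) (s μ c l : F) (x : Fin k → ℂ)
    (hx : x ∈ C.es [(7, μ), (9, c), (10, 0), (11, l)]) :
    C.ρ (X 8 s) x ∈ C.es [(7, μ - 2 * s * c), (9, c), (10, 0), (11, l)] := by
  have h7 := C.act_of_mem hx (s := (7 : Rt)) (a := μ) (by simp)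
  have h9 := C.act_of_mem hx (s := (9 : Rt)) (a := c) (by simp)
  have h10 := C.act_of_zero hx (s := (10 : Rt)) (by simp)
  have h11 := C.act_of_mem hx (s := (11 : Rt)) (a := l) (by simp)
  refine C.map_mem_es fun p hp u => ?_
  simp only [List.mem_cons, List.not_mem_nil, or_false] at hp
  rcases hp with rfl | rfl | rfl | rfl
  · simp only [conj_8_7, h3, zero_mul, X_zero, mul_one, C.apply_mul, h9, map_smul, h7, smul_smul,
      ← AddChar.map_add_eq_mul]
    congr 2; ring
  · rw [conj_comm3 h3 (show comm3 (8 : Rt) (9 : Rt) = true by decide +kernel), h9]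
  · rw [conj_comm3 h3 (show comm3 (8 : Rt) (10 : Rt) = true by decide +kernel), h10, zero_mul,
      AddChar.map_zero_eq_one, one_smul]
  · rw [conj_comm3 h3 (show comm3 (8 : Rt) (11 : Rt) = true by decide +kernel), h11]

theorem shift_six_seven (s μ b : F) (x : Fin k → ℂ)
    (hx : x ∈ C.es [(8, b), (7, μ), (9, 0), (10, 0), (11, 0)]) :
    C.ρ (X 6 s) x ∈ C.es [(8, b), (7, μ - s * b), (9, 0), (10, 0), (11, 0)] := by
  have h8 := C.act_of_mem hx (s := (8 : Rt)) (a := b) (by simp)
  have h7 := C.act_of_mem hx (s := (7 : Rt)) (a := μ) (by simp)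
  have h9 := C.act_of_zero hx (s := (9 : Rt)) (by simp)
  have h10 := C.act_of_zero hx (s := (10 : Rt)) (by simp)
  have h11 := C.act_of_zero hx (s := (11 : Rt)) (by simp)
  refine C.map_mem_es fun p hp u => ?_
  simp only [List.mem_cons, List.not_mem_nil, or_false] at hp
  rcases hp with rfl | rfl | rfl | rfl | rfl
  · rw [conj_comm (show commB (6 : Rt) (8 : Rt) = true by decide +kernel), h8]
  · simp only [conj_6_7, C.apply_mul, h11, h10, h9, h8, map_smul, h7, smul_smul, ← AddChar.map_add_eq_mul]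
    congr 2; ring
  · rw [conj_comm (show commB (6 : Rt) (9 : Rt) = true by decide +kernel), h9, zero_mul,
      AddChar.map_zero_eq_one, one_smul]
  · rw [conj_6_10, C.apply_mul, h11, h10, zero_mul, AddChar.map_zero_eq_one, one_smul]
  · rw [conj_comm (show commB (6 : Rt) (11 : Rt) = true by decide +kernel), h11, zero_mul,
      AddChar.map_zero_eq_one, one_smul]

theorem split_seven_eight (h3 : (3 : F) = 0) (μ l : F) :
    C.m [(7, μ), (9, 0), (10, 0), (11, l)] = ∑ b : F, C.m [(8, b), (7, μ), (9, 0), (10, 0), (11, l)] := by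
  refine C.md_split ⊤ 8 _ (fun _ _ _ => trivial) fun s x _ hx => ?_
  have := C.shift_eight_seven h3 s μ 0 l x hx
  rwa [mul_zero, sub_zero] at this

theorem sum_seven_eight (h3 : (3 : F) = 0) (b l : F) :
    C.m [(8, b), (9, 0), (10, 0), (11, l)] = ∑ μ : F, C.m [(8, b), (7, μ), (9, 0), (10, 0), (11, l)] := by
  have e : C.m [(8, b), (9, 0), (10, 0), (11, l)] = ∑ μ : F, C.m [(7, μ), (8, b), (9, 0), (10, 0), (11, l)] := by
    refine C.md_split ⊤ 7 _ (fun _ _ _ => trivial) fun t x _ hx => C.es_invariant hx fun p hp v => ?_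
    have h9 := C.act_of_zero hx (s := (9 : Rt)) (by simp)
    simp only [List.mem_cons, List.not_mem_nil, or_false] at hp
    rcases hp with rfl | rfl | rfl | rfl
    · simp only [conj_7_8, h3, zero_mul, neg_zero, X_zero, mul_one, C.apply_mul, h9]
    · rw [conj_comm3 h3 (show comm3 (7 : Rt) (9 : Rt) = true by decide +kernel)]
    · rw [conj_comm3 h3 (show comm3 (7 : Rt) (10 : Rt) = true by decide +kernel)]
    · rw [conj_comm3 h3 (show comm3 (7 : Rt) (11 : Rt) = true by decide +kernel)]
  rw [e]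
  refine Finset.sum_congr rfl fun μ _ => C.md_eq_of_mem_iff fun p => ?_
  simp only [List.mem_cons, List.not_mem_nil, or_false]; tauto

theorem three_false (hS : C.Small3) (h3 : (3 : F) = 0) (hρ : C.ρ.IsIrreducible)
    (hq : 9 ≤ Fintype.card F) (hlt : k ≤ Fintype.card F ^ 4 + Fintype.card F ^ 2) : False := by
  classical
  set q := Fintype.card F with hqdef
  have hqpos : 0 < q := Fintype.card_pos
  have h2 : (2 : F) ≠ 0 := by rw [two_eq_neg_one h3]; exact neg_ne_zero.mpr one_ne_zero
  obtain ⟨e₁, e₂, e₃, e₄, he1, he2, he3, he4, hswap⟩ := C.D_swap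
  have hone : ∀ (s : F → ℕ) (b : F), ∑ x ∈ Finset.univ.erase (0 : F), (fun _ => 1) x = q - 1 := by
    intro _ _
    rw [Finset.sum_const, Finset.card_erase_of_mem (Finset.mem_univ _), Finset.card_univ, smul_eq_mul, mul_one]
  have hrow : ∀ g : F → ℕ, (∀ x : F, x ≠ 0 → g x = 1) → ∑ x : F, g x = g 0 + (q - 1) := by
    intro g hg
    rw [← Finset.add_sum_erase _ _ (Finset.mem_univ (0 : F)),
      Finset.sum_congr rfl fun x hx => hg x (Finset.ne_of_mem_erase hx), hone g 0]
  -- eliminating the coordinate of `3a+b`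
  have hd : ∀ (s₁ c l : F), l ≠ 0 → C.T1 s₁ c l = q * C.m [(8, s₁), (9, c), (10, 0), (11, l)] := by
    intro s₁ c l hl
    have hmap : ∀ (s d : F) (x : Fin k → ℂ), x ∈ C.es [(10, d), (9, c), (8, s₁), (11, l)] →
        C.ρ (X 6 s) x ∈ C.es [(10, d - l * s), (9, c), (8, s₁), (11, l)] := by
      intro s d x hx
      have h10 := C.act_of_mem hx (s := (10 : Rt)) (a := d) (by simp)
      have h9 := C.act_of_mem hx (s := (9 : Rt)) (a := c) (by simp)
      have h8 := C.act_of_mem hx (s := (8 : Rt)) (a := s₁) (by simp)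
      have h11 := C.act_of_mem hx (s := (11 : Rt)) (a := l) (by simp)
      refine C.map_mem_es fun p hp u => ?_
      simp only [List.mem_cons, List.not_mem_nil, or_false] at hp
      rcases hp with rfl | rfl | rfl | rfl
      · simp only [conj_6_10, C.apply_mul, h11, map_smul, h10, smul_smul, ← AddChar.map_add_eq_mul]
        congr 2; ring
      · rw [conj_comm3 h3 (show comm3 (6 : Rt) (9 : Rt) = true by decide +kernel), h9]
      · rw [conj_comm3 h3 (show comm3 (6 : Rt) (8 : Rt) = true by decide +kernel), h8]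
      · rw [conj_comm3 h3 (show comm3 (6 : Rt) (11 : Rt) = true by decide +kernel), h11]
    have hconst : ∀ d : F, C.m [(10, d), (9, c), (8, s₁), (11, l)] = C.m [(8, s₁), (9, c), (10, 0), (11, l)] := by
      intro d
      refine (C.m_eq_of_pair (X 6 (d / l)) (X 6 (-(d / l))) (fun x hx => ?_) fun x hx => ?_).trans
        (C.md_eq_of_mem_iff (L := [(10, 0), (9, c), (8, s₁), (11, l)]) fun p => by
          simp only [List.mem_cons, List.not_mem_nil, or_false]; tauto)
      · have := hmap (d / l) d x hx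
        rwa [show d - l * (d / l) = 0 by field_simp; ring] at this
      · have := hmap (-(d / l)) 0 x hx
        rwa [show 0 - l * -(d / l) = d by field_simp; ring] at this
    rw [T1, C.m_split3 h3 10 _ (by
      simp only [List.mem_cons, List.not_mem_nil, or_false]
      rintro p (rfl | rfl | rfl)
      · show comm3 (10 : Rt) (9 : Rt) = true; decide +kernel
      · show comm3 (10 : Rt) (8 : Rt) = true; decide +kernel
      · show comm3 (10 : Rt) (11 : Rt) = true; decide +kernel),
      Finset.sum_congr rfl fun d _ => hconst d, Finset.sum_const, Finset.card_univ, smul_eq_mul]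
  have hline : ∀ (s₁ c l : F), l ≠ 0 → C.m [(8, s₁), (9, c), (10, 0), (11, l)] = 1 := by
    intro s₁ c l hl
    refine Nat.eq_of_mul_eq_mul_left hqpos ?_
    rw [← hd s₁ c l hl]
    by_cases h : s₁ = 0 ∧ c = 0
    · rw [h.1, h.2, C.T1_zero h3 hl, hS.nn_one]
    · rw [C.T1_gen h3 hl h, hS.rr_one]
  -- characters with `c ≠ 0`
  have hTc : ∀ μ c l : F, c ≠ 0 → C.m [(7, μ), (9, c), (10, 0), (11, l)] = 1 := by
    intro μ c l hc
    have hconst : ∀ μ' : F, C.m [(7, μ'), (9, c), (10, 0), (11, l)] = C.m [(7, μ), (9, c), (10, 0), (11, l)] := by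
      intro μ'
      refine C.m_eq_of_pair (X 8 ((μ' - μ) / (2 * c))) (X 8 ((μ - μ') / (2 * c))) (fun x hx => ?_) fun x hx => ?_
      · have := C.shift_eight_seven h3 ((μ' - μ) / (2 * c)) μ' c l x hx
        rwa [show μ' - 2 * ((μ' - μ) / (2 * c)) * c = μ by field_simp; ring] at this
      · have := C.shift_eight_seven h3 ((μ - μ') / (2 * c)) μ c l x hx
        rwa [show μ - 2 * ((μ - μ') / (2 * c)) * c = μ' by field_simp; ring] at this
    have htot : C.m [(9, c), (10, 0), (11, l)] = q := by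
      by_cases hl : l = 0
      · subst hl
        rw [C.m_splitQ 8 _ (by decide) (by simp [QR]) (by simp)]
        have hb : ∀ b : F, C.m [(8, b), (9, c), (10, 0), (11, 0)] = 1 := by
          intro b
          rw [C.m_splitQ 6 _ (by decide) (by simp [QR]) (by simp)]
          have e : ∀ a : F, C.m [(6, a), (8, b), (9, c), (10, 0), (11, 0)] =
              C.D (a + (-b / (2 * c) * b + (-b / (2 * c)) ^ 2 * c)) 0 c 0 := by
            intro a
            have h := C.D_trans3 h3 (-b / (2 * c)) a b c 0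
            rw [show b + 2 * (-b / (2 * c)) * c = 0 by field_simp; ring, mul_zero, sub_zero, add_assoc] at h
            rw [h]
            exact C.md_eq_of_mem_iff fun p => by
              simp only [List.mem_cons, List.not_mem_nil, or_false]; tauto
          rw [Finset.sum_congr rfl fun a _ => e a]
          refine (Fintype.sum_equiv (Equiv.addRight (-b / (2 * c) * b + (-b / (2 * c)) ^ 2 * c)) _
              (fun a => C.D a 0 c 0) fun a => rfl).trans ?_
          rw [Finset.sum_eq_single (0 : F) (fun a _ ha => hS.fibre_zero a c 0 hc ha) (by simp)]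
          exact hS.fibre_one c 0 hc
        rw [Finset.sum_congr rfl fun b _ => hb b, Finset.sum_const, Finset.card_univ, smul_eq_mul, mul_one]
      · rw [C.m_split3 h3 8 _ (by
          simp only [List.mem_cons, List.not_mem_nil, or_false]
          rintro p (rfl | rfl | rfl)
          · show comm3 (8 : Rt) (9 : Rt) = true; decide +kernel
          · show comm3 (8 : Rt) (10 : Rt) = true; decide +kernel
          · show comm3 (8 : Rt) (11 : Rt) = true; decide +kernel),
          Finset.sum_congr rfl fun b _ => hline b c l hl, Finset.sum_const, Finset.card_univ, smul_eq_mul,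
          mul_one]
    rw [C.m_split3 h3 7 _ (by
      simp only [List.mem_cons, List.not_mem_nil, or_false]
      rintro p (rfl | rfl | rfl)
      · show comm3 (7 : Rt) (9 : Rt) = true; decide +kernel
      · show comm3 (7 : Rt) (10 : Rt) = true; decide +kernel
      · show comm3 (7 : Rt) (11 : Rt) = true; decide +kernel),
      Finset.sum_congr rfl fun μ' _ => hconst μ', Finset.sum_const, Finset.card_univ, smul_eq_mul] at htot
    exact Nat.eq_of_mul_eq_mul_left hqpos (htot.trans (mul_one q).symm)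
  -- `c = 0`, `b ≠ 0`, trivial centre
  have hTb : ∀ μ b : F, b ≠ 0 → C.m [(8, b), (7, μ), (9, 0), (10, 0), (11, 0)] = 1 := by
    intro μ b hb
    have hconst : ∀ μ' : F, C.m [(8, b), (7, μ'), (9, 0), (10, 0), (11, 0)] =
        C.m [(8, b), (7, μ), (9, 0), (10, 0), (11, 0)] := by
      intro μ'
      refine C.m_eq_of_pair (X 6 ((μ' - μ) / b)) (X 6 ((μ - μ') / b)) (fun x hx => ?_) fun x hx => ?_
      · have := C.shift_six_seven ((μ' - μ) / b) μ' b x hx
        rwa [show μ' - (μ' - μ) / b * b = μ by field_simp; ring] at this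
      · have := C.shift_six_seven ((μ - μ') / b) μ b x hx
        rwa [show μ - (μ - μ') / b * b = μ' by field_simp; ring] at this
    have htot : C.m [(8, b), (9, 0), (10, 0), (11, 0)] = q := by
      rw [C.m_splitQ 6 _ (by decide) (by simp [QR]) (by simp)]
      have e : ∀ a : F, C.m [(6, a), (8, b), (9, 0), (10, 0), (11, 0)] = 1 := by
        intro a
        rw [← hS.fibre_one (e₃ * b) (e₄ * a) (mul_ne_zero he3 hb)]
        refine Eq.trans ?_ ((hswap a b 0 0).trans (by rw [mul_zero, mul_zero]))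
        exact C.md_eq_of_mem_iff fun p => by simp only [List.mem_cons, List.not_mem_nil, or_false]; tauto
      rw [Finset.sum_congr rfl fun a _ => e a, Finset.sum_const, Finset.card_univ, smul_eq_mul, mul_one]
    rw [C.sum_seven_eight h3, Finset.sum_congr rfl fun μ' _ => hconst μ', Finset.sum_const, Finset.card_univ,
      smul_eq_mul] at htot
    exact Nat.eq_of_mul_eq_mul_left hqpos (htot.trans (mul_one q).symm)
  obtain ⟨g, hg0, -, hg2⟩ := exists_gen_unit (F := F) (by omega)
  -- `c = 0`, `b = 0`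
  have hfixed : ∀ (a : F), a ≠ 0 → ∀ μ, μ ≠ 0 → C.m [(6, a), (8, 0), (7, μ), (9, 0), (10, 0), (11, 0)] = 0 := by
    intro a ha μ hμ
    by_contra hne
    have htot : C.D a 0 0 0 = ∑ μ' : F, C.m [(6, a), (8, 0), (7, μ'), (9, 0), (10, 0), (11, 0)] := by
      have e : C.m [(6, a), (8, 0), (9, 0), (10, 0), (11, 0)] =
          ∑ μ' : F, C.m [(7, μ'), (6, a), (8, 0), (9, 0), (10, 0), (11, 0)] := by
        refine C.md_split ⊤ 7 _ (fun _ _ _ => trivial) fun t x _ hx => C.es_invariant hx fun p hp v => ?_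
        have h8 := C.act_of_zero hx (s := (8 : Rt)) (by simp)
        have h9 := C.act_of_zero hx (s := (9 : Rt)) (by simp)
        have h10 := C.act_of_zero hx (s := (10 : Rt)) (by simp)
        have h11 := C.act_of_zero hx (s := (11 : Rt)) (by simp)
        simp only [List.mem_cons, List.not_mem_nil, or_false] at hp
        rcases hp with rfl | rfl | rfl | rfl | rfl
        · simp only [conj_7_6, C.apply_mul, h11, h10, h9, h8]
        · simp only [conj_7_8, C.apply_mul, h11, h10, h9]
        · simp only [conj_7_9, C.apply_mul, h10]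
        · rw [conj_comm (show commB (7 : Rt) (10 : Rt) = true by decide +kernel)]
        · rw [conj_comm (show commB (7 : Rt) (11 : Rt) = true by decide +kernel)]
      refine Eq.trans ?_ (e.trans (Finset.sum_congr rfl fun μ' _ => C.md_eq_of_mem_iff fun p => ?_))
      · exact C.md_eq_of_mem_iff fun p => by simp only [List.mem_cons, List.not_mem_nil, or_false]; tauto
      · simp only [List.mem_cons, List.not_mem_nil, or_false]; tauto
    rw [hS.long_bot a ha] at htot
    have h2' : C.m [(6, a), (8, 0), (7, μ * g ^ 2), (9, 0), (10, 0), (11, 0)] =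
        C.m [(6, a), (8, 0), (7, μ), (9, 0), (10, 0), (11, 0)] := by
      have := C.m_tor (Units.mk0 g hg0 ^ 2) 1 [(6, a), (8, 0), (7, μ), (9, 0), (10, 0), (11, 0)]
      simp only [List.map_cons, List.map_nil, ev_six, ev_eight, ev_seven, ev_nine, ev_ten, ev_eleven, zero_mul,
        Units.val_one, mul_one, Units.val_pow_eq_pow_val, Units.val_mk0] at this
      exact this
    have hne2 : μ * g ^ 2 ≠ μ := fun h => hg2 (mul_left_cancel₀ hμ (h.trans (mul_one μ).symm))
    have := Finset.add_le_sum (f := fun μ' => C.m [(6, a), (8, 0), (7, μ'), (9, 0), (10, 0), (11, 0)])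
      (fun _ _ => Nat.zero_le _) (Finset.mem_univ (μ * g ^ 2)) (Finset.mem_univ μ) hne2
    simp only [h2'] at this
    omega
  have hzero : ∀ l μ : F, l ≠ 0 → μ ≠ 0 → C.m [(8, 0), (7, μ), (9, 0), (10, 0), (11, l)] = 0 := by
    intro l μ hl hμ
    by_contra hne
    have htot := C.sum_seven_eight h3 0 l
    rw [hline 0 0 l hl] at htot
    set G := Units.mk0 g hg0
    have h2' : C.m [(8, 0), (7, μ * g ^ 2), (9, 0), (10, 0), (11, l)] =
        C.m [(8, 0), (7, μ), (9, 0), (10, 0), (11, l)] := by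
      have := C.m_tor (G ^ 2) (G⁻¹ ^ 3) [(8, 0), (7, μ), (9, 0), (10, 0), (11, l)]
      simp only [List.map_cons, List.map_nil, ev_eight, ev_seven, ev_nine, ev_ten, ev_eleven, zero_mul] at this
      rw [show (((G ^ 2) ^ 3 * (G⁻¹ ^ 3) ^ 2 : Fˣ) : F) = 1 by
        rw [← pow_mul, ← pow_mul, inv_pow, mul_inv_cancel, Units.val_one], mul_one] at this
      rw [Units.val_pow_eq_pow_val] at this
      exact this
    have hne2 : μ * g ^ 2 ≠ μ := fun h => hg2 (mul_left_cancel₀ hμ (h.trans (mul_one μ).symm))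
    have := Finset.add_le_sum (f := fun μ' => C.m [(8, 0), (7, μ'), (9, 0), (10, 0), (11, l)])
      (fun _ _ => Nat.zero_le _) (Finset.mem_univ (μ * g ^ 2)) (Finset.mem_univ μ) hne2
    simp only [h2'] at this
    omega
  -- the main equation
  let ν : F → ℕ := fun μ => C.m [(6, 0), (8, 0), (7, μ), (9, 0), (10, 0), (11, 0)]
  let Z : F → F → F → ℕ := fun μ b l => C.m [(8, b), (7, μ), (9, 0), (10, 0), (11, l)]
  let Y : F → ℕ := fun μ => ∑ l ∈ Finset.univ.erase (0 : F), ∑ b ∈ Finset.univ.erase (0 : F), Z μ b l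
  have heq : ∀ μ : F, μ ≠ 0 → ν μ + Y μ = 1 := by
    intro μ hμ
    obtain ⟨e, he, h⟩ := C.md_nw ⊤ [1] (fun _ _ => trivial) (fun _ _ => trivial)
    have e7 : wact [1] (7 : Rt) = 8 := by decide +kernel
    have e10 : wact [1] (10 : Rt) = 11 := by decide +kernel
    have hlhs : C.m [(7, μ), (10, 0)] = q * q := by
      refine (h _).trans ?_
      simp only [List.map_cons, List.map_nil, e7, e10, mul_zero]
      have hne : e 7 * μ ≠ 0 := mul_ne_zero (fun h0 => by
        have := he 7; rw [h0, mul_zero] at this; exact zero_ne_one this) hμ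
      show C.m [((8 : Rt), e 7 * μ), (11, 0)] = _
      rw [C.m_splitQ 9 _ (by decide) (by simp [QR]) (by simp)]
      show ∑ a : F, C.T1 (e 7 * μ) a 0 = _
      rw [Finset.sum_congr rfl fun a _ => C.T1_ee h3 (fun h' => hne h'.1), Finset.sum_const, Finset.card_univ,
        smul_eq_mul, hS.ee_eq]
    have hsplit : C.m [(7, μ), (10, 0)] = ∑ l : F, ∑ c : F, C.m [(7, μ), (9, c), (10, 0), (11, l)] := by
      rw [C.m_split3 h3 11 _ (by
        simp only [List.mem_cons, List.not_mem_nil, or_false]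
        rintro p (rfl | rfl)
        · show comm3 (11 : Rt) (7 : Rt) = true; decide +kernel
        · show comm3 (11 : Rt) (10 : Rt) = true; decide +kernel)]
      refine Finset.sum_congr rfl fun l _ => ?_
      rw [C.m_split3 h3 9 _ (by
        simp only [List.mem_cons, List.not_mem_nil, or_false]
        rintro p (rfl | rfl | rfl)
        · show comm3 (9 : Rt) (11 : Rt) = true; decide +kernel
        · show comm3 (9 : Rt) (7 : Rt) = true; decide +kernel
        · show comm3 (9 : Rt) (10 : Rt) = true; decide +kernel)]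
      refine Finset.sum_congr rfl fun c _ => C.md_eq_of_mem_iff fun p => ?_
      simp only [List.mem_cons, List.not_mem_nil, or_false]; tauto
    have hl : ∀ l : F, ∑ c : F, C.m [(7, μ), (9, c), (10, 0), (11, l)] =
        (Z μ 0 l + ∑ b ∈ Finset.univ.erase (0 : F), Z μ b l) + (q - 1) := by
      intro l
      rw [hrow _ fun c hc => hTc μ c l hc, C.split_seven_eight h3,
        ← Finset.add_sum_erase _ _ (Finset.mem_univ (0 : F))]
    have h00 : (Z μ 0 0 + ∑ b ∈ Finset.univ.erase (0 : F), Z μ b 0) = ν μ + (q - 1) := by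
      rw [Finset.sum_congr rfl fun b hb => hTb μ b (Finset.ne_of_mem_erase hb), hone (fun _ => 0) 0]
      congr 1
      show C.m [(8, 0), (7, μ), (9, 0), (10, 0), (11, 0)] = _
      have e : C.m [(8, 0), (7, μ), (9, 0), (10, 0), (11, 0)] =
          ∑ a : F, C.m [(6, a), (8, 0), (7, μ), (9, 0), (10, 0), (11, 0)] :=
        C.md_split ⊤ 6 _ (fun _ _ _ => trivial) fun s x _ hx => by
          have := C.shift_six_seven s μ 0 x hx
          rwa [mul_zero, sub_zero] at this
      rw [e, Finset.sum_eq_single (0 : F) (fun a _ ha => hfixed a ha μ hμ) (by simp)]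
    rw [hsplit, ← Finset.add_sum_erase _ _ (Finset.mem_univ (0 : F)), hl 0, h00,
      Finset.sum_congr rfl fun l hl' => (hl l).trans (by
        rw [show Z μ 0 l = 0 from hzero l μ (Finset.ne_of_mem_erase hl') hμ, zero_add]),
      Finset.sum_add_distrib, Finset.sum_const, Finset.card_erase_of_mem (Finset.mem_univ _), Finset.card_univ,
      smul_eq_mul] at hlhs
    change ν μ + (q - 1) + (q - 1) + (Y μ + (q - 1) * (q - 1)) = q * q at hlhs
    obtain ⟨n, hn⟩ : ∃ n, q = n + 1 := ⟨q - 1, by omega⟩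
    rw [hn, Nat.add_sub_cancel] at hlhs
    have : (n + 1) * (n + 1) = n * n + 2 * n + 1 := by ring
    omega
  have hY : ∀ μ : F, μ ≠ 0 → Y μ = 0 := by
    by_contra hcon
    push Not at hcon
    obtain ⟨μ₀, hμ₀, hY0⟩ := hcon
    obtain ⟨l₀, hl₀, hb⟩ := Finset.exists_ne_zero_of_sum_ne_zero hY0
    obtain ⟨b₀, hb₀, hZ⟩ := Finset.exists_ne_zero_of_sum_ne_zero hb
    have hl₀' := Finset.ne_of_mem_erase hl₀
    have hb₀' := Finset.ne_of_mem_erase hb₀
    have hall : ∀ l : F, l ≠ 0 → ∀ b : F, b ≠ 0 → 1 ≤ ∑ μ ∈ Finset.univ.erase (0 : F), Z μ b l := by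
      intro l hl b hb
      set S := Units.mk0 b hb * (Units.mk0 b₀ hb₀')⁻¹
      set L := Units.mk0 l hl * (Units.mk0 l₀ hl₀')⁻¹
      have := C.m_tor (L * S⁻¹ ^ 2) (S ^ 3 * L⁻¹) [(8, b₀), (7, μ₀), (9, 0), (10, 0), (11, l₀)]
      simp only [List.map_cons, List.map_nil, ev_eight, ev_seven, ev_nine, ev_ten, ev_eleven, zero_mul] at this
      have e8 : b₀ * ((L * S⁻¹ ^ 2 * (S ^ 3 * L⁻¹) : Fˣ) : F) = b := by
        simp only [Units.val_mul, Units.val_pow_eq_pow_val, Units.val_inv_eq_inv_val, Units.val_mk0, S, L]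
        field_simp
      have e11 : l₀ * (((L * S⁻¹ ^ 2) ^ 3 * (S ^ 3 * L⁻¹) ^ 2 : Fˣ) : F) = l := by
        simp only [Units.val_mul, Units.val_pow_eq_pow_val, Units.val_inv_eq_inv_val, Units.val_mk0, S, L]
        field_simp
      rw [e8, e11] at this
      have hne : μ₀ * ((L * S⁻¹ ^ 2 : Fˣ) : F) ≠ 0 := mul_ne_zero hμ₀ (Units.ne_zero _)
      refine le_trans ?_ (Finset.single_le_sum (fun _ _ => Nat.zero_le _)
        (Finset.mem_erase.mpr ⟨hne, Finset.mem_univ _⟩))
      show 1 ≤ C.m _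
      rw [this]
      exact Nat.one_le_iff_ne_zero.mpr hZ
    have hup : ∑ μ ∈ Finset.univ.erase (0 : F), Y μ ≤ q - 1 := by
      rw [← hone (fun _ => 0) 0]
      refine Finset.sum_le_sum fun μ hμ => ?_
      have := heq μ (Finset.ne_of_mem_erase hμ)
      omega
    have hlow : (q - 1) * (q - 1) ≤ ∑ μ ∈ Finset.univ.erase (0 : F), Y μ := by
      rw [Finset.sum_comm]
      calc (q - 1) * (q - 1) = ∑ l ∈ Finset.univ.erase (0 : F), ∑ b ∈ Finset.univ.erase (0 : F), 1 := by
            rw [Finset.sum_congr rfl fun l _ => hone (fun _ => 0) 0, Finset.sum_const,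
              Finset.card_erase_of_mem (Finset.mem_univ _), Finset.card_univ, smul_eq_mul]
        _ ≤ _ := Finset.sum_le_sum fun l hl => by
            rw [Finset.sum_comm]
            exact Finset.sum_le_sum fun b hb => hall l (Finset.ne_of_mem_erase hl) b (Finset.ne_of_mem_erase hb)
    have h8 : 8 * (q - 1) ≤ (q - 1) * (q - 1) := Nat.mul_le_mul_right _ (by omega)
    omega
  have hν : ∀ μ : F, μ ≠ 0 → ν μ = 1 := fun μ hμ => by
    have := heq μ hμ
    rw [hY μ hμ, add_zero] at this
    exact this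
  -- the trivial character of the radical
  have hC : C.D 0 0 0 0 = ν 0 + (q - 1) := by
    rw [← hrow ν hν]
    have e : C.m [(10, 0), (9, 0), (8, 0), (6, 0), (11, 0)] =
        ∑ μ : F, C.m [(7, μ), (10, 0), (9, 0), (8, 0), (6, 0), (11, 0)] :=
      C.md_split ⊤ 7 _ (fun _ _ _ => trivial) fun t x _ hx => by
        have := C.D_trans_map t 0 0 0 0 x hx
        simpa using this
    refine e.trans (Finset.sum_congr rfl fun μ _ => C.md_eq_of_mem_iff fun p => ?_)
    simp only [List.mem_cons, List.not_mem_nil, or_false]; tauto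
  have hdeg := hS.deg
  rw [← hqdef, hC] at hdeg
  -- the characteristic
  haveI : CharP F 3 := by
    obtain ⟨p, hp⟩ := CharP.exists F
    haveI := hp
    have hprime := CharP.char_is_prime F p
    have : p ∣ 3 := (CharP.cast_eq_zero_iff F p 3).mp (by exact_mod_cast h3)
    rcases (Nat.dvd_prime Nat.prime_three).mp this with h | h
    · exact absurd h hprime.ne_one
    · exact h ▸ hp
  obtain ⟨m, -, hm⟩ := FiniteField.card F 3
  haveI := hρ
  have hdvd : k ∣ Nat.card (Grp F) := by
    have := CharClifford.finrank_dvd_card C.ρ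
    rwa [Module.finrank_fin_fun] at this
  rw [card_group, ← hqdef] at hdvd
  have hqm : q = 3 ^ (m : ℕ) := hm
  rw [hqm] at hdvd hdeg hlt hq
  refine arith_false hq ?_ hdvd
  omega

end Ctx

end Cfsg.Agent.G2Deg54
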